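/-
Sums of two powers of two modulo a divisor `N` of `2 ^ n - 1` of small index.
-/
import Mathlib

set_option autoImplicit false
set_option synthInstance.maxSize 2000
set_option maxRecDepth 8000

namespace Cfsg.Agent.SuzSolv

/-- `N` has index `d ∣ n` in `2 ^ n - 1`. -/
structure IndexOK (n N : ℕ) : Prop where
  two_le : 2 ≤ n
  index : ∃ d, d ∣ n ∧ N * d = 2 ^ n - 1

theorem two_pow_pair {a b c e : ℕ} (hab : a ≤ b) (hce : c ≤ e) (h : 2 ^ a + 2 ^ b = 2 ^ c + 2 ^ e) :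
    a = c ∧ b = e := by
  have hp := fun x => Nat.two_pow_pos x
  rcases lt_trichotomy b e with hbe | hbe | hbe
  · exfalso
    have h1 : 2 ^ a ≤ 2 ^ b := Nat.pow_le_pow_right (by norm_num) hab
    have h2 : 2 ^ (b + 1) ≤ 2 ^ e := Nat.pow_le_pow_right (by norm_num) hbe
    rw [pow_succ] at h2
    have := hp c
    omega
  · subst hbe
    exact ⟨Nat.pow_right_injective le_rfl (by simpa using h), rfl⟩
  · exfalso
    have h1 : 2 ^ c ≤ 2 ^ e := Nat.pow_le_pow_right (by norm_num) hce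
    have h2 : 2 ^ (e + 1) ≤ 2 ^ b := Nat.pow_le_pow_right (by norm_num) hbe
    rw [pow_succ] at h2
    have := hp a
    omega

theorem two_pow_pair' {a b c e : ℕ} (h : 2 ^ a + 2 ^ b = 2 ^ c + 2 ^ e) :
    (a = c ∧ b = e) ∨ (a = e ∧ b = c) := by
  rcases le_total a b with h1 | h1 <;> rcases le_total c e with h2 | h2
  · exact Or.inl (two_pow_pair h1 h2 h)
  · exact Or.inr (two_pow_pair h1 h2 (by omega))
  · exact Or.inr (two_pow_pair h1 h2 (by omega)).symm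
  · exact Or.inl (two_pow_pair h1 h2 (by omega)).symm

theorem bound_large : ∀ n, 24 ≤ n → n * 2 ^ (3 * n / 4 + 1) < 2 ^ n := by
  intro n hn
  have key : ∀ k, 5 ≤ k → 4 * (k + 1) < 2 ^ k := by
    intro k hk
    induction k, hk using Nat.le_induction with
    | base => norm_num
    | succ k _ ih => rw [pow_succ]; omega
  obtain ⟨k, hk⟩ : ∃ k, n = 3 * n / 4 + 1 + k := ⟨n - (3 * n / 4 + 1), by omega⟩
  have hk5 : 5 ≤ k := by omega
  have hnk : n ≤ 4 * (k + 1) := by omega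
  conv_rhs => rw [hk, pow_add, mul_comm]
  exact Nat.mul_lt_mul_of_pos_right (hnk.trans_lt (key k hk5)) (Nat.two_pow_pos _)

theorem bound_small : ∀ n < 24, ∀ d < 24, 2 ≤ n → d ∣ n → d ∣ 2 ^ n - 1 →
    d * 2 ^ (3 * n / 4 + 1) < 2 ^ n ∨ d ≤ 1 ∨ (n = 6 ∧ d = 3) := by
  decide +kernel

theorem exists_shift {n a b c e : ℕ} (ha : a < n) (hb : b < n) (hc : c < n) (he : e < n) :
    ∃ r < n, ∀ x, x = a ∨ x = b ∨ x = c ∨ x = e → 4 * ((x + (n - r)) % n) ≤ 3 * n := by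
  let f : Fin 4 → ℕ := ![a, b, c, e]
  let σ := Tuple.sort f
  have hmono : Monotone (f ∘ σ) := Tuple.monotone_sort f
  have hmem : ∀ x, x = a ∨ x = b ∨ x = c ∨ x = e →
      x = f (σ 0) ∨ x = f (σ 1) ∨ x = f (σ 2) ∨ x = f (σ 3) := by
    intro x hx
    obtain ⟨i, rfl⟩ : ∃ i, f i = x := by
      rcases hx with rfl | rfl | rfl | rfl
      exacts [⟨0, rfl⟩, ⟨1, rfl⟩, ⟨2, rfl⟩, ⟨3, rfl⟩]
    obtain ⟨j, rfl⟩ := σ.surjective i
    fin_cases j <;> simp
  have hlt : ∀ i, f i < n := by intro i; fin_cases i <;> assumption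
  have h01 : f (σ 0) ≤ f (σ 1) := hmono (by decide)
  have h12 : f (σ 1) ≤ f (σ 2) := hmono (by decide)
  have h23 : f (σ 2) ≤ f (σ 3) := hmono (by decide)
  have h0 := hlt (σ 0)
  have h1 := hlt (σ 1)
  have h2 := hlt (σ 2)
  have h3 := hlt (σ 3)
  have key : ∀ r < n, ∀ x < n, (x + (n - r)) % n = if r ≤ x then x - r else x + (n - r) := by
    intro r hr x hx
    split_ifs with h
    · rw [show x + (n - r) = (x - r) + n by omega, Nat.add_mod_right, Nat.mod_eq_of_lt (by omega)]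
    · exact Nat.mod_eq_of_lt (by omega)
  by_cases g1 : n ≤ 4 * (f (σ 1) - f (σ 0))
  · refine ⟨f (σ 1), h1, fun x hx => ?_⟩
    rcases hmem x hx with rfl | rfl | rfl | rfl
    all_goals (rw [key _ h1 _ (by assumption)]; split_ifs <;> omega)
  by_cases g2 : n ≤ 4 * (f (σ 2) - f (σ 1))
  · refine ⟨f (σ 2), h2, fun x hx => ?_⟩
    rcases hmem x hx with rfl | rfl | rfl | rfl
    all_goals (rw [key _ h2 _ (by assumption)]; split_ifs <;> omega)
  by_cases g3 : n ≤ 4 * (f (σ 3) - f (σ 2))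
  · refine ⟨f (σ 3), h3, fun x hx => ?_⟩
    rcases hmem x hx with rfl | rfl | rfl | rfl
    all_goals (rw [key _ h3 _ (by assumption)]; split_ifs <;> omega)
  refine ⟨f (σ 0), h0, fun x hx => ?_⟩
  rcases hmem x hx with rfl | rfl | rfl | rfl
  all_goals (rw [key _ h0 _ (by assumption)]; split_ifs <;> omega)

namespace IndexOK

variable {n N : ℕ} (h : IndexOK n N)

include h

theorem dvd : N ∣ 2 ^ n - 1 := by
  obtain ⟨d, -, hd⟩ := h.index
  exact ⟨d, hd.symm⟩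

theorem one_lt : 1 < N := by
  obtain ⟨d, hd, hN⟩ := h.index
  have hdn := Nat.le_of_dvd (by have := h.two_le; omega) hd
  have h2 : n + 1 < 2 ^ n := by
    have := h.two_le
    clear hN hdn hd h
    induction n, ‹2 ≤ n› using Nat.le_induction with
    | base => norm_num
    | succ k _ ih => rw [pow_succ]; omega
  by_contra hN1
  have : N * d ≤ 1 * n := Nat.mul_le_mul (by omega) hdn
  omega

theorem pow_two_self : 2 ^ n ≡ 1 [MOD N] :=
  ((Nat.modEq_iff_dvd' (Nat.two_pow_pos n)).2 h.dvd).symm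

theorem pow_two_mod (a : ℕ) : 2 ^ a ≡ 2 ^ (a % n) [MOD N] := by
  conv_lhs => rw [← Nat.div_add_mod a n, pow_add, pow_mul]
  have := (h.pow_two_self.pow (a / n)).mul_right (2 ^ (a % n))
  simpa using this

theorem coprime_two_pow (a : ℕ) : Nat.Coprime N (2 ^ a) := by
  refine Nat.Coprime.pow_right a ?_
  rw [Nat.coprime_comm, Nat.Prime.coprime_iff_not_dvd Nat.prime_two]
  intro h2
  have h3 := (h2.trans h.dvd)
  have hn : n ≠ 0 := by have := h.two_le; omega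
  have h4 : 2 ∣ 2 ^ n := dvd_pow_self 2 hn
  have := Nat.two_pow_pos n
  omega

theorem four {a b c e : ℕ} (ha : a < n) (hb : b < n) (hc : c < n) (he : e < n)
    (hmod : 2 ^ a + 2 ^ b ≡ 2 ^ c + 2 ^ e [MOD N]) :
    ((a = c ∧ b = e) ∨ (a = e ∧ b = c)) ∨ (n = 6 ∧ N = 21) := by
  obtain ⟨d, hdn, hd⟩ := h.index
  have hn := h.two_le
  have hdpos : 0 < d := Nat.pos_of_dvd_of_pos hdn (by omega)
  have hNpos : 0 < N := by have := h.one_lt; omega
  obtain ⟨r, hr, hsh⟩ := exists_shift ha hb hc he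
  set A := (a + (n - r)) % n with hA
  set B := (b + (n - r)) % n with hB
  set C := (c + (n - r)) % n with hC
  set E := (e + (n - r)) % n with hE
  have hA' := hsh a (Or.inl rfl)
  have hB' := hsh b (Or.inr (Or.inl rfl))
  have hC' := hsh c (Or.inr (Or.inr (Or.inl rfl)))
  have hE' := hsh e (Or.inr (Or.inr (Or.inr rfl)))
  have hshift : 2 ^ A + 2 ^ B ≡ 2 ^ C + 2 ^ E [MOD N] := by
    have h1 : ∀ x, 2 ^ x * 2 ^ (n - r) ≡ 2 ^ ((x + (n - r)) % n) [MOD N] := fun x => by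
      rw [← pow_add]; exact h.pow_two_mod _
    have h2 := hmod.mul_right (2 ^ (n - r))
    rw [add_mul, add_mul] at h2
    exact ((h1 a).add (h1 b)).symm.trans (h2.trans ((h1 c).add (h1 e)))
  have hinj : ∀ {x y : ℕ}, x < n → y < n → (x + (n - r)) % n = (y + (n - r)) % n → x = y := by
    intro x y hx hy hxy
    have : x ≡ y [MOD n] := Nat.ModEq.add_right_cancel' (n - r) hxy
    exact Nat.ModEq.eq_of_lt_of_lt this hx hy
  have done : 2 ^ A + 2 ^ B = 2 ^ C + 2 ^ E → (a = c ∧ b = e) ∨ (a = e ∧ b = c) := by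
    intro heq
    rcases two_pow_pair' heq with ⟨h1, h2⟩ | ⟨h1, h2⟩
    · exact Or.inl ⟨hinj ha hc h1, hinj hb he h2⟩
    · exact Or.inr ⟨hinj ha he h1, hinj hb hc h2⟩
  set S := 3 * n / 4 with hS
  have hle : ∀ x, 4 * x ≤ 3 * n → 2 ^ x ≤ 2 ^ S := fun x hx =>
    Nat.pow_le_pow_right (by norm_num) (by omega)
  have hsum : ∀ x y, 4 * x ≤ 3 * n → 4 * y ≤ 3 * n → 2 ≤ 2 ^ x + 2 ^ y ∧ 2 ^ x + 2 ^ y ≤ 2 ^ (S + 1) := by
    intro x y hx hy
    have := hle x hx
    have := hle y hy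
    have := Nat.two_pow_pos x
    have := Nat.two_pow_pos y
    rw [pow_succ]
    omega
  obtain ⟨l1, u1⟩ := hsum A B hA' hB'
  obtain ⟨l2, u2⟩ := hsum C E hC' hE'
  have main : 2 ^ (S + 1) < N + 2 → (a = c ∧ b = e) ∨ (a = e ∧ b = c) := by
    intro hlt
    refine done ?_
    by_contra hne
    rcases Nat.lt_or_gt_of_ne hne with hlt' | hlt'
    · have := Nat.le_of_dvd (by omega) ((Nat.modEq_iff_dvd' hlt'.le).1 hshift)
      omega
    · have := Nat.le_of_dvd (by omega) ((Nat.modEq_iff_dvd' hlt'.le).1 hshift.symm)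
      omega
  have hcond : d * 2 ^ (S + 1) < 2 ^ n → (a = c ∧ b = e) ∨ (a = e ∧ b = c) := by
    intro hlt
    apply main
    by_contra hge
    have h1 : d * (N + 2) ≤ d * 2 ^ (S + 1) := Nat.mul_le_mul_left d (by omega)
    rw [Nat.mul_add, mul_comm d N, hd] at h1
    omega
  rcases Nat.lt_or_ge n 24 with hsmall | hbig
  · have hdle := Nat.le_of_dvd (by omega) hdn
    rcases bound_small n hsmall d (by omega) hn hdn ⟨N, by rw [mul_comm, hd]⟩ with h1 | h1 | ⟨rfl, rfl⟩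
    · exact Or.inl (hcond h1)
    · refine Or.inl (main ?_)
      have hd1 : d = 1 := by omega
      rw [hd1, mul_one] at hd
      have : 2 ^ (S + 1) ≤ 2 ^ n := Nat.pow_le_pow_right (by norm_num) (by omega)
      omega
    · refine Or.inr ⟨rfl, ?_⟩
      norm_num at hd ⊢
      omega
  · refine Or.inl (hcond ?_)
    have hdle := Nat.le_of_dvd (by omega) hdn
    exact (Nat.mul_le_mul_right _ hdle).trans_lt (bound_large n hbig)

theorem pow_two_inj {a : ℕ} (ha : a < n) (hmod : 2 ^ a ≡ 1 [MOD N]) : a = 0 := by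
  have hn := h.two_le
  rcases h.four ha ha (show 0 < n by omega) (show 0 < n by omega)
    (by simpa using hmod.add hmod) with (⟨h1, -⟩ | ⟨h1, -⟩) | ⟨rfl, rfl⟩
  · exact h1
  · exact h1
  · revert hmod
    revert ha
    revert a
    decide

theorem three {a b c : ℕ} (ha : a < n) (hb : b < n) (hmod : 2 ^ a + 2 ^ b ≡ 2 ^ c [MOD N]) :
    a = b := by
  have hn := h.two_le
  set e := (c + (n - 1)) % n with he
  have hee : 2 ^ e + 2 ^ e ≡ 2 ^ c [MOD N] := by
    rw [← two_mul, ← pow_succ']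
    refine (h.pow_two_mod _).trans ?_
    rw [he, Nat.mod_add_mod, show c + (n - 1) + 1 = c + n by omega, Nat.add_mod_right]
    exact (h.pow_two_mod c).symm
  have hlt : e < n := Nat.mod_lt _ (by omega)
  rcases h.four ha hb hlt hlt (hmod.trans hee.symm) with (⟨h1, h2⟩ | ⟨h1, h2⟩) | ⟨rfl, rfl⟩
  · omega
  · omega
  · have key : ∀ a < 6, ∀ b < 6, ∀ c < 6, (2 ^ a + 2 ^ b) % 21 = 2 ^ c % 21 → a = b := by decide
    exact key a ha b hb (c % 6) (Nat.mod_lt _ (by norm_num)) (hmod.trans (h.pow_two_mod c))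

theorem pair {a b c e : ℕ} (ha : a < n) (hb : b < n) (hc : c < n) (he : e < n)
    (hcop : n = 6 → N = 21 → Nat.Coprime (2 ^ a + 2 ^ b) N) (hmod : 2 ^ a + 2 ^ b ≡ 2 ^ c + 2 ^ e [MOD N]) :
    (a = c ∧ b = e) ∨ (a = e ∧ b = c) := by
  rcases h.four ha hb hc he hmod with h1 | ⟨rfl, rfl⟩
  · exact h1
  · have key : ∀ a < 6, ∀ b < 6, ∀ c < 6, ∀ e < 6, Nat.gcd (2 ^ a + 2 ^ b) 21 = 1 →
        (2 ^ a + 2 ^ b) % 21 = (2 ^ c + 2 ^ e) % 21 → (a = c ∧ b = e) ∨ (a = e ∧ b = c) := by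
      decide +kernel
    exact key a ha b hb c hc e he (hcop rfl rfl) hmod

theorem sep {t i j : ℕ} (ht : t < n) (hi : i < n) (hj : j < n) (hcop : Nat.Coprime (2 ^ i - 1) N)
    (hmod : 2 ^ t + 2 ^ j ≡ 1 + 2 ^ (t + i) [MOD N]) : t = 0 ∧ i = j := by
  have hn := h.two_le
  have hi0 : i ≠ 0 := by
    rintro rfl
    simp only [pow_zero, Nat.sub_self, Nat.coprime_zero_left] at hcop
    exact absurd hcop (by have := h.one_lt; omega)
  have hlt : (t + i) % n < n := Nat.mod_lt _ (by omega)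
  have hmod' : 2 ^ t + 2 ^ j ≡ 2 ^ 0 + 2 ^ ((t + i) % n) [MOD N] := by
    rw [pow_zero]; exact hmod.trans ((Nat.ModEq.refl 1).add (h.pow_two_mod _))
  rcases h.four ht hj (show 0 < n by omega) hlt hmod' with (⟨rfl, h2⟩ | ⟨h1, h2⟩) | ⟨rfl, rfl⟩
  · rw [zero_add, Nat.mod_eq_of_lt hi] at h2
    exact ⟨rfl, h2.symm⟩
  · exfalso
    have hmm : t + i ≡ t + 0 [MOD n] := by
      show (t + i) % n = (t + 0) % n
      rw [add_zero, ← h1, Nat.mod_eq_of_lt ht]
    exact hi0 (Nat.ModEq.eq_of_lt_of_lt (Nat.ModEq.add_left_cancel' t hmm) hi (by omega))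
  · have key : ∀ t < 6, ∀ i < 6, ∀ j < 6, Nat.gcd (2 ^ i - 1) 21 = 1 →
        (2 ^ t + 2 ^ j) % 21 = (2 ^ 0 + 2 ^ ((t + i) % 6)) % 21 → t = 0 ∧ i = j := by
      decide +kernel
    exact key t ht i hi j hj hcop hmod'

end IndexOK

end Cfsg.Agent.SuzSolv
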