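/-
A large scalar of a finite field of characteristic two.
-/
import Cfsg.Agent.Lib.SuzukiSolv.Arith
import Cfsg.Agent.Lib.RankOne.FieldMaps

set_option autoImplicit false

namespace Cfsg.Agent.SuzSolv

open Cfsg.Agent.RankOne

variable {F : Type*} [Field F] [Fintype F] [CharP F 2]

/-- The multiplicative order of `μ` has index dividing the degree of the field. -/
def Scalar (μ : F) : Prop := IndexOK (Nat.card (F ≃+* F)) (orderOf μ)

theorem card_units_eq : Nat.card Fˣ = 2 ^ Nat.card (F ≃+* F) - 1 := by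
  classical
  rw [Nat.card_eq_fintype_card, Fintype.card_units, FieldMaps.card_aut]

theorem frob_pow_apply (a : ℕ) (x : F) : (frobeniusEquiv F 2 ^ a) x = x ^ 2 ^ a := by
  induction a with
  | zero => simp
  | succ a ih =>
    rw [pow_succ']
    show frobeniusEquiv F 2 ((frobeniusEquiv F 2 ^ a) x) = _
    rw [ih, frobeniusEquiv_apply, frobenius_def, ← pow_mul, ← pow_succ]

theorem exists_pow (σ : F ≃+* F) : ∃ a < Nat.card (F ≃+* F), ∀ x : F, σ x = x ^ 2 ^ a := by
  classical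
  set n := Nat.card (F ≃+* F) with hn
  let f : Fin n → (F ≃+* F) := fun a => frobeniusEquiv F 2 ^ (a : ℕ)
  have hinj : Function.Injective f := by
    intro a b hab
    obtain ⟨g, hg⟩ := IsCyclic.exists_generator (α := Fˣ)
    have hord := orderOf_eq_card_of_forall_mem_zpowers hg
    rw [card_units_eq] at hord
    have e := RingEquiv.congr_fun hab (g : F)
    simp only [f, frob_pow_apply] at e
    have e' : g ^ 2 ^ (a : ℕ) = g ^ 2 ^ (b : ℕ) := Units.ext (by simpa using e)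
    have hlt : ∀ c : Fin n, 2 ^ (c : ℕ) < orderOf g ∨ n = 1 := by
      intro c
      rw [hord]
      by_cases h1 : n = 1
      · exact Or.inr h1
      left
      have h2 : 2 ^ ((c : ℕ) + 1) ≤ 2 ^ n := Nat.pow_le_pow_right (by norm_num) c.2
      rw [pow_succ] at h2
      rw [← hn]
      rcases Nat.eq_zero_or_pos (c : ℕ) with h0 | h0
      · rw [h0, pow_zero]
        have : 2 ^ 2 ≤ 2 ^ n := Nat.pow_le_pow_right (by norm_num) (by have := c.2; omega)
        omega
      · have : 2 ^ 1 ≤ 2 ^ (c : ℕ) := Nat.pow_le_pow_right (by norm_num) h0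
        omega
    rcases hlt a with ha | h1
    · rcases hlt b with hb | h1
      · exact Fin.ext (Nat.pow_right_injective le_rfl (pow_injOn_Iio_orderOf ha hb e'))
      · exact Fin.ext (by have := a.2; have := b.2; omega)
    · exact Fin.ext (by have := a.2; have := b.2; omega)
  have hbij : Function.Bijective f :=
    (Nat.bijective_iff_injective_and_card f).2 ⟨hinj, by rw [Nat.card_fin]⟩
  obtain ⟨a, rfl⟩ := hbij.2 σ
  exact ⟨a, a.2, fun x => frob_pow_apply _ x⟩

namespace Scalar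

variable {μ : F} (h : Scalar μ)

include h

theorem one_lt : 1 < orderOf μ := IndexOK.one_lt h

theorem ne_zero : μ ≠ 0 := by
  rintro rfl
  have := Scalar.one_lt h
  rw [orderOf_zero] at this
  omega

theorem modEq {i j : ℕ} : μ ^ i = μ ^ j ↔ i ≡ j [MOD orderOf μ] :=
  (isOfFinOrder_iff_pow_eq_one.2 ⟨orderOf μ, (Scalar.one_lt h).le.trans' Nat.zero_lt_one,
    pow_orderOf_eq_one μ⟩).pow_eq_pow_iff_modEq

theorem fix {θ : F ≃+* F} (hθ : θ μ = μ) : θ = RingEquiv.refl F := by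
  obtain ⟨a, ha, hθa⟩ := exists_pow θ
  rw [hθa] at hθ
  have := IndexOK.pow_two_inj h ha ((Scalar.modEq h).1 (by rw [hθ, pow_one]))
  subst this
  exact RingEquiv.ext fun x => by simp [hθa]

theorem two_eq_one {σ τ ρ : F ≃+* F} (e : σ μ * τ μ = ρ μ) : σ = τ := by
  obtain ⟨a, ha, hσ⟩ := exists_pow σ
  obtain ⟨b, hb, hτ⟩ := exists_pow τ
  obtain ⟨c, -, hρ⟩ := exists_pow ρ
  rw [hσ, hτ, hρ, ← pow_add] at e
  have := IndexOK.three h ha hb ((Scalar.modEq h).1 e)
  subst this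
  exact RingEquiv.ext fun x => by rw [hσ, hτ]

theorem coprime_of_orderOf {k : ℕ} (e : orderOf μ ≤ orderOf (μ ^ k)) : Nat.Coprime k (orderOf μ) := by
  have hpos : 0 < orderOf μ := (Scalar.one_lt h).le.trans' Nat.zero_lt_one
  rcases Nat.eq_zero_or_pos k with rfl | hk
  · rw [pow_zero, orderOf_one] at e
    exact absurd (Scalar.one_lt h) (by omega)
  rw [orderOf_pow' μ hk.ne'] at e
  have hg : orderOf μ / Nat.gcd (orderOf μ) k = orderOf μ :=
    le_antisymm (Nat.div_le_self _ _) e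
  rw [Nat.coprime_comm]
  exact Or.resolve_left ((Nat.div_eq_self).1 hg) hpos.ne'

theorem pair {σ τ ρ π : F ≃+* F} (e : σ μ * τ μ = ρ μ * π μ)
    (hord : Nat.card (F ≃+* F) = 6 → orderOf μ = 21 → orderOf μ ≤ orderOf (σ μ * τ μ)) : (σ = ρ ∧ τ = π) ∨ (σ = π ∧ τ = ρ) := by
  obtain ⟨a, ha, hσ⟩ := exists_pow σ
  obtain ⟨b, hb, hτ⟩ := exists_pow τ
  obtain ⟨c, hc, hρ⟩ := exists_pow ρ
  obtain ⟨d, hd, hπ⟩ := exists_pow π
  rw [hσ, hτ, hρ, hπ, ← pow_add, ← pow_add] at e
  rcases IndexOK.pair h ha hb hc hd (fun h6 h21 => coprime_of_orderOf h ((hord h6 h21).trans_eq (by rw [hσ, hτ, ← pow_add]))) ((Scalar.modEq h).1 e) with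
    ⟨rfl, rfl⟩ | ⟨rfl, rfl⟩
  · exact Or.inl ⟨RingEquiv.ext fun x => by rw [hσ, hρ], RingEquiv.ext fun x => by rw [hτ, hπ]⟩
  · exact Or.inr ⟨RingEquiv.ext fun x => by rw [hσ, hπ], RingEquiv.ext fun x => by rw [hτ, hρ]⟩

theorem separate {θ φ ψ : F ≃+* F} (hord : orderOf μ ≤ orderOf (μ * (φ μ)⁻¹))
    (e : θ (μ * (φ μ)⁻¹) = μ * (ψ μ)⁻¹) : θ = RingEquiv.refl F ∧ φ = ψ := by
  have hμ := Scalar.ne_zero h
  obtain ⟨t, ht, hθ⟩ := exists_pow θ
  obtain ⟨i, hi, hφ⟩ := exists_pow φ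
  obtain ⟨j, hj, hψ⟩ := exists_pow ψ
  have hcop : Nat.Coprime (2 ^ i - 1) (orderOf μ) := by
    refine coprime_of_orderOf h (hord.trans_eq ?_)
    have e1 : μ * (φ μ)⁻¹ = (μ ^ (2 ^ i - 1))⁻¹ := by
      rw [hφ]
      conv_lhs => arg 2; rw [show 2 ^ i = (2 ^ i - 1) + 1 by
        have := Nat.two_pow_pos i; omega, pow_succ]
      field_simp
    rw [e1]
    exact orderOf_eq_orderOf_iff.2 fun m => by rw [inv_pow, inv_eq_one]
  have e2 : μ ^ (2 ^ t + 2 ^ j) = μ ^ (1 + 2 ^ (t + i)) := by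
    rw [pow_add, pow_add, pow_one, pow_add 2 t i, mul_comm (2 ^ t) (2 ^ i), pow_mul, ← hθ, ← hψ,
      ← hφ, ← hθ]
    rw [map_mul, map_inv₀, ← div_eq_mul_inv, ← div_eq_mul_inv,
      div_eq_div_iff (by simpa using hμ) (by simpa using hμ)] at e
    exact e
  obtain ⟨rfl, rfl⟩ := IndexOK.sep h ht hi hj hcop ((Scalar.modEq h).1 e2)
  exact ⟨RingEquiv.ext fun x => by simp [hθ], RingEquiv.ext fun x => by rw [hφ, hψ]⟩

end Scalar

/-- An element fixed by no automorphism generates the field. -/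
theorem closed_of_generator {χ : F} (hgen : ∀ θ : F ≃+* F, θ χ = χ → θ = RingEquiv.refl F)
    (R : Subring F) (hχ : χ ∈ R) : R = ⊤ := by
  classical
  haveI : Fact (Nat.Prime 2) := ⟨Nat.prime_two⟩
  letI := ZMod.algebra F 2
  have htop : IntermediateField.adjoin (ZMod 2) {χ} = ⊤ := by
    rw [← IsGalois.fixedField_fixingSubgroup (IntermediateField.adjoin (ZMod 2) {χ})]
    have hbot : (IntermediateField.adjoin (ZMod 2) {χ}).fixingSubgroup = ⊥ := by
      refine (Subgroup.eq_bot_iff_forall _).2 fun θ hθ => ?_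
      have := hgen θ.toRingEquiv
        ((IntermediateField.mem_fixingSubgroup_iff _ _).1 hθ χ (IntermediateField.mem_adjoin_simple_self _ χ))
      exact AlgEquiv.ext fun x => RingEquiv.congr_fun this x
    rw [hbot, IntermediateField.fixedField_bot]
  have halg : Algebra.adjoin (ZMod 2) {χ} = ⊤ := by
    rw [← IntermediateField.adjoin_simple_toSubalgebra_of_isAlgebraic
      (Algebra.IsAlgebraic.isAlgebraic χ), htop, IntermediateField.top_toSubalgebra]
  refine eq_top_iff.2 fun x hxtop => ?_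
  clear hxtop
  have hx : x ∈ Algebra.adjoin (ZMod 2) {χ} := halg ▸ Algebra.mem_top
  induction hx using Algebra.adjoin_induction with
  | mem y hy => rw [Set.mem_singleton_iff] at hy; exact hy ▸ hχ
  | algebraMap r =>
    obtain ⟨m, rfl⟩ := ZMod.natCast_zmod_surjective r
    rw [map_natCast]
    exact natCast_mem R m
  | add a b _ _ ha hb => exact add_mem ha hb
  | mul a b _ _ ha hb => exact mul_mem ha hb

end Cfsg.Agent.SuzSolv
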