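/-
A 2-group with a solvable group of automorphisms transitive on the involutions: coordinates and a
fixed-point-free scalar automorphism.
-/
import Cfsg.Agent.Lib.SuzukiSolv.Scalars
import Cfsg.Agent.Lib.Solvable.TransLinear.Main

set_option autoImplicit false

namespace Cfsg.Agent.SuzSolv

universe u

open Cfsg.Agent.RankOne

variable {P : Type u} [Group P]

/-- The hypothesis. -/
structure Datum (P : Type u) [Group P] where
  isp : IsPGroup 2 P
  Y : Subgroup (MulAut P)
  sol : Group.IsSolvable Y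
  two : ∃ x y : P, x ≠ y ∧ x ≠ 1 ∧ x * x = 1 ∧ y ≠ 1 ∧ y * y = 1
  trans : ∀ x y : P, x ≠ 1 → x * x = 1 → y ≠ 1 → y * y = 1 → ∃ k : Y, (k : MulAut P) x = y

namespace Datum

variable (D : Datum P) [Finite P]

include D in
theorem involution_central {x : P} (hx : x * x = 1) : x ∈ Subgroup.center P := by
  classical
  by_cases h1 : x = 1
  · rw [h1]; exact one_mem _
  obtain ⟨u, v, -, hu, hu2, -, -⟩ := D.two
  haveI : Fact (Nat.Prime 2) := ⟨Nat.prime_two⟩
  haveI : Nontrivial P := ⟨⟨u, 1, hu⟩⟩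
  haveI := D.isp.center_nontrivial
  obtain ⟨k, hk⟩ := IsPGroup.iff_card.1 (D.isp.to_subgroup (Subgroup.center P))
  have hk0 : k ≠ 0 := fun e => by
    rw [e, pow_zero] at hk
    exact (Finite.one_lt_card (α := Subgroup.center P)).ne' hk
  obtain ⟨z, hz⟩ := exists_prime_orderOf_dvd_card' (G := Subgroup.center P) 2
    (hk ▸ dvd_pow_self 2 hk0)
  have hz2 : (z : P) * z = 1 := by
    have h := pow_orderOf_eq_one z
    rw [hz, pow_two] at h
    exact congrArg Subtype.val h
  have hz1 : (z : P) ≠ 1 := fun e => by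
    rw [← Subgroup.orderOf_coe, e, orderOf_one] at hz
    omega
  obtain ⟨a, ha⟩ := D.trans z x hz1 hz2 h1 hx
  rw [← ha, Subgroup.mem_center_iff]
  intro g
  obtain ⟨g, rfl⟩ := (a : MulAut P).surjective g
  rw [← map_mul, ← map_mul, Subgroup.mem_center_iff.1 z.2 g]

/-- The involutions together with one. -/
def V : Subgroup P where
  carrier := {x | x * x = 1}
  one_mem' := one_mul 1
  mul_mem' {x y} hx hy := by
    show x * y * (x * y) = 1
    have hc := Subgroup.mem_center_iff.1 (D.involution_central hx)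
    calc x * y * (x * y) = x * (y * x) * y := by group
      _ = x * (x * y) * y := by rw [hc y]
      _ = (x * x) * (y * y) := by group
      _ = 1 := by rw [show x * x = 1 from hx, show y * y = 1 from hy, one_mul]
  inv_mem' {x} hx := by
    show x⁻¹ * x⁻¹ = 1
    rw [← mul_inv_rev, show x * x = 1 from hx, inv_one]

theorem mem_V {x : P} : x ∈ D.V ↔ x * x = 1 := Iff.rfl

theorem V_central {x : P} (hx : x ∈ D.V) (y : P) : y * x = x * y :=
  Subgroup.mem_center_iff.1 (D.involution_central hx) y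

theorem conj_fix {D : Datum P} {v : P} (hv : v ∈ D.V) (y : P) : y * v * y⁻¹ = v := by
  rw [D.V_central hv y, mul_inv_cancel_right]

theorem exists_ne_one : ∃ v ∈ D.V, v ≠ 1 := by
  obtain ⟨u, -, -, hu, hu2, -, -⟩ := D.two
  exact ⟨u, hu2, hu⟩

theorem map_V (k : MulAut P) {x : P} (hx : x ∈ D.V) : k x ∈ D.V := by
  rw [D.mem_V, ← map_mul, D.mem_V.1 hx, map_one]

theorem exists_k {x y : P} (hx : x ∈ D.V) (hx1 : x ≠ 1) (hy : y ∈ D.V) (hy1 : y ≠ 1) :
    ∃ k : D.Y, (k : MulAut P) x = y :=
  D.trans x y hx1 hx hy1 hy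

theorem map_ne_one (k : D.Y) {x : P} (hx : x ≠ 1) : (k : MulAut P) x ≠ 1 := fun e =>
  hx ((k : MulAut P).injective (e.trans (map_one _).symm))

/-- The action of the group on the involutions. -/
def res : D.Y →* MulAut D.V where
  toFun k :=
    { toFun := fun v => ⟨(k : MulAut P) v, D.map_V _ v.2⟩
      invFun := fun v => ⟨((k⁻¹ : D.Y) : MulAut P) v, D.map_V _ v.2⟩
      left_inv := fun v => Subtype.ext (by simp)
      right_inv := fun v => Subtype.ext (by simp)
      map_mul' := fun v w => Subtype.ext (map_mul (k : MulAut P) (v : P) w) }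
  map_one' := MulEquiv.ext fun _ => rfl
  map_mul' := fun _ _ => MulEquiv.ext fun _ => rfl

end Datum

/-- Coordinates of the involutions and a scalar automorphism. -/
structure Coord {P : Type u} [Group P] [Finite P] (D : Datum P) (F : Type) [Field F] [Fintype F]
    [CharP F 2] where
  co : P → F
  el : F → P
  el_mem : ∀ x, el x ∈ D.V
  co_el : ∀ x, co (el x) = x
  el_co : ∀ v ∈ D.V, el (co v) = v
  co_mul : ∀ v ∈ D.V, ∀ w ∈ D.V, co (v * w) = co v + co w
  c : D.Y
  c_odd : Odd (orderOf c)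
  μ : F
  scalar : Scalar μ
  co_c : ∀ v ∈ D.V, co ((c : MulAut P) v) = μ * co v

theorem exists_coord {P : Type u} [Group P] [Finite P] (D : Datum P) :
    ∃ (F : Type) (_ : Field F) (_ : Fintype F) (_ : CharP F 2),
      Nonempty (Coord D F) ∧ Nat.card F = Nat.card D.V := by
  classical
  haveI : Fact (Nat.Prime 2) := ⟨Nat.prime_two⟩
  haveI : Finite (MulAut P) :=
    Finite.of_injective (fun f => (f : P → P)) DFunLike.coe_injective
  haveI : Finite (MulAut D.V) :=
    Finite.of_injective (fun f => (f : D.V → D.V)) DFunLike.coe_injective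
  haveI := D.sol
  letI : CommGroup D.V :=
    { (inferInstance : Group D.V) with
      mul_comm := fun a b => Subtype.ext (D.V_central b.2 a) }
  set R := (D.res).range with hR
  haveI : Group.IsSolvable R := Group.isSolvable_of_surjective D.res.rangeRestrict_surjective
  letI : DistribMulAction R (Additive D.V) :=
    { smul := fun g v => Additive.ofMul ((g : MulAut D.V) v.toMul)
      one_smul := fun _ => rfl
      mul_smul := fun _ _ _ => rfl
      smul_zero := fun g => congrArg Additive.ofMul (map_one (g : MulAut D.V))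
      smul_add := fun g v w => congrArg Additive.ofMul (map_mul (g : MulAut D.V) v.toMul w.toMul) }
  have hne1 : ∀ u : Additive D.V, u ≠ 0 → (u.toMul : P) ≠ 1 := fun u hu e =>
    hu (Additive.toMul.injective (Subtype.ext e))
  obtain ⟨u0, w0, huw, hu0, hu02, hw0, hw02⟩ := D.two
  have hsetup : TransLin.Setup R (Additive D.V) 2 :=
    { prime := Nat.prime_two
      exp := fun v => by
        rw [two_nsmul]; exact Additive.toMul.injective (Subtype.ext v.toMul.2)
      faithful := fun g hg => Subtype.ext (MulEquiv.ext fun v =>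
        congrArg Additive.toMul (hg (Additive.ofMul v)))
      trans := fun v w hv hw => by
        obtain ⟨k, hk⟩ := D.trans _ _ (hne1 v hv) v.toMul.2 (hne1 w hw) w.toMul.2
        exact ⟨⟨D.res k, k, rfl⟩, Additive.toMul.injective (Subtype.ext hk)⟩
      nontriv := ⟨Additive.ofMul ⟨u0, hu02⟩, fun e =>
        hu0 (congrArg (fun z : Additive D.V => (z.toMul : P)) e)⟩ }
  obtain ⟨m, hm⟩ := IsPGroup.iff_card.1 (D.isp.to_subgroup D.V)
  have hcardV : Nat.card (Additive D.V) = 2 ^ m := hm
  have hm2 : 2 ≤ m := by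
    by_contra hlt
    have h3 : 3 ≤ Nat.card D.V := by
      haveI := Fintype.ofFinite D.V
      rw [Nat.card_eq_fintype_card]
      have hs : ({1, ⟨u0, hu02⟩, ⟨w0, hw02⟩} : Finset D.V).card = 3 := by
        refine Finset.card_eq_three.2 ⟨_, _, _, ?_, ?_, ?_, rfl⟩
        · exact fun e => hu0 (congrArg Subtype.val e).symm
        · exact fun e => hw0 (congrArg Subtype.val e).symm
        · exact fun e => huw (congrArg Subtype.val e)
      exact hs ▸ Finset.card_le_univ _
    have : 2 ^ m ≤ 2 := (Nat.pow_le_pow_right (by norm_num) (show m ≤ 1 by omega)).trans_eq (pow_one 2)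
    omega
  rcases TransLin.huppert hsetup with ⟨F, i1, i2, e, hsemi⟩ | hexc
  swap
  · exfalso
    rw [hcardV] at hexc
    have heven : 2 ^ m % 2 = 0 := by
      obtain ⟨j, rfl⟩ : ∃ j, m = j + 1 := ⟨m - 1, by omega⟩
      rw [pow_succ]; omega
    simp only [Set.mem_insert_iff, Set.mem_singleton_iff] at hexc
    omega
  have htwoF : ∀ x : F, x + x = 0 := fun x => by
    obtain ⟨v, rfl⟩ := e.surjective x
    rw [← map_add, ← two_nsmul, hsetup.exp, map_zero]
  haveI : CharP F 2 := CharTwo.of_one_ne_zero_of_two_eq_zero one_ne_zero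
    (by rw [← one_add_one_eq_two]; exact htwoF 1)
  have hcardF : Nat.card F = Nat.card D.V := (Nat.card_congr e.toEquiv).symm.trans rfl
  set n := Nat.card (F ≃+* F) with hn
  have hnm : n = m := by
    have h1 := FieldMaps.card_aut (F := F)
    rw [← Nat.card_eq_fintype_card, hcardF, hm] at h1
    exact (Nat.pow_right_injective le_rfl h1).symm
  choose a σ haσ using hsemi
  have hev : ∀ g x, e (g • e.symm x) = a g * σ g x := fun g x => by
    rw [haσ, e.apply_symm_apply]
  have ha0 : ∀ g, a g ≠ 0 := fun g h0 => by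
    have h1 := hev g 1
    rw [h0, zero_mul] at h1
    have h2 := (AddEquiv.map_eq_zero_iff e).1 h1
    rw [smul_eq_zero_iff_eq] at h2
    exact one_ne_zero ((AddEquiv.map_eq_zero_iff e.symm).1 h2)
  have huniq : ∀ g (b : F) (τ : F ≃+* F), (∀ x, a g * σ g x = b * τ x) → a g = b ∧ σ g = τ := by
    intro g b τ h
    have h1 := h 1
    rw [map_one, map_one, mul_one, mul_one] at h1
    exact ⟨h1, RingEquiv.ext fun x => mul_left_cancel₀ (ha0 g) ((h x).trans (by rw [h1]))⟩
  have hmul : ∀ g h, a (g * h) = a g * σ g (a h) ∧ σ (g * h) = (σ h).trans (σ g) := by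
    intro g h
    refine huniq (g * h) _ _ fun x => ?_
    rw [← hev (g * h) x, mul_smul, haσ g, hev h x, map_mul, ← mul_assoc]
    rfl
  let sig : R →* (F ≃+* F) :=
    MonoidHom.mk' σ fun g h => (hmul g h).2.trans (RingEquiv.ext fun _ => rfl)
  let lam : sig.ker →* Fˣ :=
    MonoidHom.mk' (fun g => Units.mk0 (a g.1) (ha0 _)) fun g h => Units.ext (by
      show a (g.1 * h.1) = a g.1 * a h.1
      rw [(hmul g.1 h.1).1]
      have hg : σ g.1 = 1 := g.2
      rw [hg]; rfl)
  have hlam : Function.Injective lam := by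
    intro g h hgh
    have hg : σ g.1 = 1 := g.2
    have hh : σ h.1 = 1 := h.2
    have ha : a g.1 = a h.1 := congrArg Units.val hgh
    refine Subtype.ext (Subtype.ext (MulEquiv.ext fun v => ?_))
    have he : e (g.1 • Additive.ofMul v) = e (h.1 • Additive.ofMul v) := by
      rw [haσ, haσ, hg, hh, ha]
    exact congrArg Additive.toMul (e.injective he)
  -- the transitive action gives the index
  obtain ⟨v1, hv1⟩ : ∃ g : Additive D.V, g ≠ 0 := hsetup.nontriv
  haveI : Finite R := inferInstance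
  have horb : MulAction.orbit R v1 = {v | v ≠ 0} := by
    ext v
    constructor
    · rintro ⟨g, rfl⟩
      show g • v1 ≠ 0
      rwa [Ne, smul_eq_zero_iff_eq]
    · exact fun hv => hsetup.trans v1 v hv1 hv
  have hpoints : Nat.card {v : Additive D.V | v ≠ 0} = 2 ^ m - 1 := by
    haveI := Fintype.ofFinite (Additive D.V)
    rw [← hcardV, Nat.card_eq_fintype_card, Nat.card_eq_fintype_card]
    simp only [Set.coe_setOf]
    rw [Fintype.card_subtype_compl, Fintype.card_subtype_eq]
  have hdvdR : 2 ^ m - 1 ∣ Nat.card R := by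
    rw [← hpoints, Nat.card_coe_set_eq, ← horb, ← MulAction.index_stabilizer]
    exact Subgroup.index_dvd_card _
  have hr : Nat.card sig.range ∣ n := Subgroup.card_subgroup_dvd_card _
  have hN : Nat.card sig.ker ∣ 2 ^ m - 1 := by
    have h1 := Subgroup.card_dvd_of_injective lam hlam
    rwa [card_units_eq, ← hn, hnm] at h1
  obtain ⟨d, hd⟩ := hN
  have hsplit : Nat.card ↥R = Nat.card sig.ker * Nat.card sig.range := by
    rw [← Subgroup.index_ker sig, Subgroup.card_mul_index]
  have hdn : d ∣ n := by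
    refine (Nat.dvd_of_mul_dvd_mul_left (Nat.card_pos (α := sig.ker)) ?_).trans hr
    rw [← hd, ← hsplit]; exact hdvdR
  -- the generator
  haveI : IsCyclic sig.ker := isCyclic_of_subgroup_isDomain ((Units.coeHom F).comp lam)
    (Units.val_injective.comp hlam)
  obtain ⟨g, hg⟩ := IsCyclic.exists_ofOrder_eq_natCard (α := sig.ker)
  obtain ⟨y, hy⟩ : ∃ y : D.Y, D.res y = (g.1 : MulAut D.V) := g.1.2
  set t := (orderOf y).factorization 2
  have hgodd : Nat.Coprime (orderOf g) (2 ^ t) := by
    refine Nat.Coprime.pow_right _ ?_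
    rw [Nat.coprime_comm, Nat.Prime.coprime_iff_not_dvd Nat.prime_two, hg]
    intro h2
    have h3 : 2 ∣ 2 ^ m - 1 := h2.trans ⟨d, hd⟩
    have h4 : 2 ∣ 2 ^ m := dvd_pow_self 2 (by omega)
    have := Nat.two_pow_pos m
    omega
  have hgord : orderOf (g ^ 2 ^ t) = Nat.card sig.ker := by rw [Nat.Coprime.orderOf_pow hgodd, hg]
  set μ : F := (lam (g ^ 2 ^ t) : F) with hμ
  have hμord : orderOf μ = Nat.card sig.ker := by
    rw [hμ, orderOf_units, orderOf_injective lam hlam, hgord]
  have hco : ∀ v (hv : v ∈ D.V), e (Additive.ofMul ⟨((y ^ 2 ^ t : D.Y) : MulAut P) v, D.map_V _ hv⟩) =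
      μ * e (Additive.ofMul ⟨v, hv⟩) := by
    intro v hv
    have h1 : D.res (y ^ 2 ^ t) = (((g ^ 2 ^ t).1 : R) : MulAut D.V) := by rw [map_pow, hy]; rfl
    have h2 := haσ (g ^ 2 ^ t).1 (Additive.ofMul ⟨v, hv⟩)
    have h3 : σ (g ^ 2 ^ t).1 = 1 := (g ^ 2 ^ t).2
    rw [h3] at h2
    refine Eq.trans ?_ h2
    refine congrArg e ?_
    refine congrArg Additive.ofMul ?_
    rw [← h1]; rfl
  refine ⟨F, i1, i2, inferInstance, ⟨⟨fun x => if h : x ∈ D.V then e (Additive.ofMul ⟨x, h⟩) else 0,
    fun x => (e.symm x).toMul.1, fun x => (e.symm x).toMul.2, fun x => ?_, fun v hv => ?_,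
    fun v hv w hw => ?_, y ^ 2 ^ t, ?_, μ, ?_, fun v hv => ?_⟩⟩, hcardF⟩
  · rw [dif_pos (e.symm x).toMul.2]
    exact e.apply_symm_apply x
  · rw [dif_pos hv, e.symm_apply_apply]; rfl
  · rw [dif_pos hv, dif_pos hw, dif_pos (mul_mem hv hw), ← map_add]; rfl
  · haveI : Finite D.Y := inferInstance
    have h0 := (orderOf_pos y).ne'
    rw [orderOf_pow_of_dvd (by positivity) (Nat.ordProj_dvd _ 2)]
    exact Nat.odd_iff.2 (Nat.two_dvd_ne_zero.1 (Nat.not_dvd_ordCompl Nat.prime_two h0))
  · exact ⟨hm2.trans_eq hnm.symm, d, hdn, by rw [hμord, ← hd, ← hn, hnm]⟩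
  · rw [dif_pos hv, dif_pos (D.map_V _ hv)]
    exact hco v hv

end Cfsg.Agent.SuzSolv
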