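/-
Freeness of the scalar automorphism, jumps of invariant subgroups, equivariant alternating maps and
the quadratic bound.
-/
import Cfsg.Agent.Lib.SuzukiSolv.Basic
import Cfsg.Agent.Lib.Suzuki2.Free

set_option autoImplicit false

namespace Cfsg.Agent.SuzSolv

universe u

open Cfsg.Agent.RankOne

variable {P : Type u} [Group P] [Finite P] {D : Datum P} {F : Type} [Field F] [Fintype F] [CharP F 2]

namespace Coord

variable (C : Coord D F)

theorem co_one : C.co 1 = 0 := by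
  have h := C.co_mul 1 (one_mem _) 1 (one_mem _)
  rw [one_mul] at h
  exact left_eq_add.1 h

theorem co_inj {v w : P} (hv : v ∈ D.V) (hw : w ∈ D.V) (h : C.co v = C.co w) : v = w := by
  rw [← C.el_co v hv, h, C.el_co w hw]

theorem co_eq_zero {v : P} (hv : v ∈ D.V) (h : C.co v = 0) : v = 1 :=
  C.co_inj hv (one_mem _) (h.trans C.co_one.symm)

include C in
theorem card_eq : Nat.card F = Nat.card D.V :=
  (Nat.card_eq_of_bijective (fun v : D.V => C.co v.1)
    ⟨fun v w h => Subtype.ext (C.co_inj v.2 w.2 h), fun x => ⟨⟨C.el x, C.el_mem x⟩, C.co_el x⟩⟩).symm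

theorem apply_pow (j : ℕ) (x : P) :
    ((C.c ^ (j + 1) : D.Y) : MulAut P) x = (C.c : MulAut P) (((C.c ^ j : D.Y) : MulAut P) x) := by
  rw [pow_succ']; rfl

theorem co_pow (j : ℕ) {v : P} (hv : v ∈ D.V) :
    C.co (((C.c ^ j : D.Y) : MulAut P) v) = C.μ ^ j * C.co v := by
  induction j with
  | zero => rw [pow_zero, pow_zero, one_mul]; rfl
  | succ j ih => rw [C.apply_pow, C.co_c _ (D.map_V _ hv), ih, pow_succ', mul_assoc]

theorem stable_pow {N : Subgroup P} (hN : ∀ a ∈ N, (C.c : MulAut P) a ∈ N) (j : ℕ) :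
    ∀ a ∈ N, ((C.c ^ j : D.Y) : MulAut P) a ∈ N := by
  induction j with
  | zero => intro a ha; rw [pow_zero]; exact ha
  | succ j ih => intro a ha; rw [C.apply_pow]; exact hN _ (ih a ha)

theorem free {j : ℕ} {x : P} (hx : x ≠ 1) (h : ((C.c ^ j : D.Y) : MulAut P) x = x) : C.μ ^ j = 1 := by
  classical
  obtain ⟨n, hn⟩ := D.isp x
  have hex : ∃ m, x ^ 2 ^ m = 1 := ⟨n, hn⟩
  obtain ⟨m, hm⟩ : ∃ m, Nat.find hex = m + 1 := ⟨Nat.find hex - 1, by
    have : Nat.find hex ≠ 0 := fun h0 => hx (by simpa [h0] using Nat.find_spec hex)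
    omega⟩
  have h1 : x ^ 2 ^ m ∈ D.V := by
    rw [D.mem_V, ← pow_add, ← two_mul, ← pow_succ', ← hm]
    exact Nat.find_spec hex
  have h2 : C.co (x ^ 2 ^ m) ≠ 0 := fun e => Nat.find_min hex (by omega) (C.co_eq_zero h1 e)
  have h3 := C.co_pow j h1
  rw [map_pow, h] at h3
  exact (mul_eq_right₀ h2).1 h3.symm

theorem free_section {N : Subgroup P} (hN : ∀ a ∈ N, (C.c : MulAut P) a ∈ N) {i : ℕ}
    (hi : C.μ ^ i ≠ 1) {x : P} (h : x⁻¹ * ((C.c ^ i : D.Y) : MulAut P) x ∈ N) : x ∈ N := by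
  classical
  have hμfin : C.μ ^ orderOf C.c = 1 := by
    obtain ⟨v, hv, hv1⟩ := D.exists_ne_one
    have h1 := C.co_pow (orderOf C.c) hv
    rw [pow_orderOf_eq_one] at h1
    exact (mul_eq_right₀ (fun e => hv1 (C.co_eq_zero hv e))).1 h1.symm
  set k := C.c ^ i with hk
  set M := orderOf k with hM
  have hμM : orderOf (C.μ ^ i) ∣ M := by
    refine orderOf_dvd_of_pow_eq_one ?_
    rw [← pow_mul]
    refine orderOf_dvd_iff_pow_eq_one.1 ((orderOf_dvd_of_pow_eq_one hμfin).trans ?_)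
    refine orderOf_dvd_of_pow_eq_one ?_
    rw [pow_mul, ← hk, hM, pow_orderOf_eq_one]
  obtain ⟨r, hr, hrμ⟩ := Nat.exists_prime_and_dvd (n := orderOf (C.μ ^ i))
    (fun e => hi (orderOf_eq_one_iff.1 e))
  haveI := Fact.mk hr
  set e := M.factorization r with he
  set j := M / r ^ e with hj
  have hMpos : 0 < M := orderOf_pos k
  have hnot : (C.μ ^ i) ^ j ≠ 1 := fun h1 =>
    Nat.not_dvd_ordCompl hr hMpos.ne' (hrμ.trans (orderOf_dvd_of_pow_eq_one h1))
  set l := k ^ j with hl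
  have hlr : l ^ r ^ e = 1 := by
    rw [hl, ← pow_mul, hj, Nat.div_mul_cancel (Nat.ordProj_dvd M r), hM, pow_orderOf_eq_one]
  have hr2 : r ≠ 2 := by
    rintro rfl
    exact Nat.not_even_iff_odd.2 C.c_odd
      (even_iff_two_dvd.2 ((hrμ.trans hμM).trans (orderOf_pow_dvd i)))
  have hNk : ∀ a ∈ N, (k : MulAut P) a ∈ N := C.stable_pow hN i
  have hpowN : ∀ j : ℕ, x⁻¹ * ((k ^ j : D.Y) : MulAut P) x ∈ N := by
    intro j
    induction j with
    | zero => rw [pow_zero]; show x⁻¹ * x ∈ N; rw [inv_mul_cancel]; exact one_mem _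
    | succ j ih =>
      have e' : ((k ^ (j + 1) : D.Y) : MulAut P) x = (k : MulAut P) (((k ^ j : D.Y) : MulAut P) x) := by
        rw [pow_succ']; rfl
      have := N.mul_mem h (hNk _ ih)
      rw [map_mul, map_inv] at this
      rw [e']
      simpa [mul_assoc] using this
  have hlN : ∀ a ∈ N, (l : MulAut P) a ∈ N := by
    rw [hl, hk, ← pow_mul]; exact C.stable_pow hN _
  let Ω := {z : P // x⁻¹ * z ∈ N}
  let f : Ω → Ω := fun z => ⟨(l : MulAut P) z.1, by
    have h2 := N.mul_mem (hpowN j) (hlN _ z.2)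
    rw [← hl, map_mul, map_inv, mul_assoc, mul_inv_cancel_left] at h2
    exact h2⟩
  haveI : Fintype Ω := Fintype.ofFinite Ω
  let σ : Equiv.Perm Ω := Equiv.ofBijective f (Finite.injective_iff_bijective.1 fun a b e =>
    Subtype.ext ((l : MulAut P).injective (congrArg Subtype.val e)))
  have hσpow : ∀ (s : ℕ) (z : Ω), ((σ ^ s) z : P) = ((l ^ s : D.Y) : MulAut P) z := by
    intro s
    induction s with
    | zero => intro z; rfl
    | succ s ih =>
      intro z
      rw [pow_succ', pow_succ', Equiv.Perm.mul_apply]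
      show (l : MulAut P) ((σ ^ s) z : P) = _
      rw [ih]; rfl
  have hσ : σ ^ r ^ e = 1 := by
    refine Equiv.Perm.ext fun z => Subtype.ext ?_
    rw [hσpow, hlr]; rfl
  have hmod := Equiv.Perm.card_compl_support_modEq (p := r) (n := e) hσ
  have hcard : Fintype.card Ω = Nat.card N := by
    rw [← Nat.card_eq_fintype_card]
    exact Nat.card_congr
      { toFun := fun z => ⟨x⁻¹ * z.1, z.2⟩
        invFun := fun a => ⟨x * a.1, by simpa using a.2⟩
        left_inv := fun z => Subtype.ext (by simp)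
        right_inv := fun a => Subtype.ext (by simp) }
  haveI : Fact (Nat.Prime 2) := ⟨Nat.prime_two⟩
  obtain ⟨t, ht⟩ := IsPGroup.iff_card.1 (D.isp.to_subgroup N)
  obtain ⟨z, hz⟩ : ∃ z : Ω, σ z = z := by
    by_contra! hall
    have h0 : σ.supportᶜ.card = 0 := by
      rw [Finset.card_eq_zero, Finset.compl_eq_empty_iff]
      exact Finset.eq_univ_iff_forall.2 fun z => Equiv.Perm.mem_support.2 (hall z)
    rw [h0, hcard, ht, Nat.ModEq, Nat.zero_mod] at hmod
    exact hr2 ((Nat.prime_dvd_prime_iff_eq hr Nat.prime_two).1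
      (hr.dvd_of_dvd_pow (Nat.dvd_of_mod_eq_zero hmod.symm)))
  by_cases hz1 : (z : P) = 1
  · have := z.2
    rw [hz1, mul_one] at this
    exact N.inv_mem_iff.1 this
  · refine absurd ?_ hnot
    rw [← pow_mul]
    refine C.free hz1 ?_
    rw [pow_mul, ← hk, ← hl]
    exact congrArg Subtype.val hz

/-- An invariant overgroup is at least `q` times as large. -/
theorem card_jump {N M : Subgroup P} (hN : ∀ a ∈ N, (C.c : MulAut P) a ∈ N)
    (hM : ∀ a ∈ M, (C.c : MulAut P) a ∈ M) (hNM : N ≤ M) {x : P} (hx : x ∈ M) (hxN : x ∉ N) :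
    Nat.card D.V * Nat.card N ≤ Nat.card M := by
  classical
  haveI : Fact (Nat.Prime 2) := ⟨Nat.prime_two⟩
  set N' := N.subgroupOf M with hN'
  let Z := Subgroup.zpowers C.c
  have hpw : ∀ k : Z, ∃ j, C.c ^ j = k.1 := fun k => by
    obtain ⟨j, hj⟩ := (mem_powers_iff_mem_zpowers.2 k.2 : k.1 ∈ Submonoid.powers C.c)
    exact ⟨j, hj⟩
  have hkN : ∀ (k : Z), ∀ a ∈ N, (k.1 : MulAut P) a ∈ N := fun k a ha => by
    obtain ⟨j, hj⟩ := hpw k
    rw [← hj]; exact C.stable_pow hN j a ha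
  have hkM : ∀ (k : Z), ∀ a ∈ M, (k.1 : MulAut P) a ∈ M := fun k a ha => by
    obtain ⟨j, hj⟩ := hpw k
    rw [← hj]; exact C.stable_pow hM j a ha
  let im : Z → M → M := fun k y => ⟨(k.1 : MulAut P) y, hkM k y y.2⟩
  let act : Z → M ⧸ N' → M ⧸ N' := fun k => Quotient.map' (im k) fun a b hab => by
    rw [QuotientGroup.leftRel_apply, Subgroup.mem_subgroupOf] at hab ⊢
    show ((k.1 : MulAut P) a)⁻¹ * (k.1 : MulAut P) b ∈ N
    rw [← map_inv, ← map_mul]
    exact hkN k _ hab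
  letI : MulAction Z (M ⧸ N') :=
    { smul := act
      one_smul := fun a => by
        obtain ⟨y, rfl⟩ := QuotientGroup.mk_surjective a
        show act 1 _ = _
        rfl
      mul_smul := fun k l a => by
        obtain ⟨y, rfl⟩ := QuotientGroup.mk_surjective a
        show act (k * l) _ = act k (act l _)
        rfl }
  set Ω : Set (M ⧸ N') := {a | a ≠ ((1 : M) : M ⧸ N')}
  have hbase : ∀ k : Z, k • ((1 : M) : M ⧸ N') = ((1 : M) : M ⧸ N') := fun k =>
    congrArg QuotientGroup.mk (show im k 1 = 1 from Subtype.ext (map_one (k.1 : MulAut P)))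
  letI : MulAction Z Ω :=
    { smul := fun k a => ⟨k • a.1, fun h => a.2 (MulAction.injective k (h.trans (hbase k).symm))⟩
      one_smul := fun a => Subtype.ext (one_smul Z a.1)
      mul_smul := fun k l a => Subtype.ext (mul_smul k l a.1) }
  haveI := Fintype.ofFinite Ω
  have horb : ∀ a : Ω, orderOf C.μ ∣ Nat.card (MulAction.orbit Z a) := by
    intro a
    rw [Nat.card_coe_set_eq, ← MulAction.index_stabilizer]
    set H := MulAction.stabilizer Z a
    haveI : IsCyclic Z := inferInstance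
    haveI : H.Normal := by
      letI := IsCyclic.commGroup (α := Z)
      exact Subgroup.normal_of_isMulCommutative H
    have hmem := Subgroup.pow_index_mem H ⟨C.c, Subgroup.mem_zpowers _⟩
    obtain ⟨y, hy⟩ := QuotientGroup.mk_surjective a.1
    by_contra hnd
    have h1 := congrArg Subtype.val (MulAction.mem_stabilizer_iff.1 hmem)
    change _ • a.1 = a.1 at h1
    rw [← hy] at h1
    change ((im _ y : M) : M ⧸ N') = y at h1
    rw [eq_comm, QuotientGroup.eq, Subgroup.mem_subgroupOf] at h1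
    have h2 : (y : P) ∈ N :=
      C.free_section hN (fun e => hnd (orderOf_dvd_of_pow_eq_one e)) (i := H.index) h1
    refine a.2 ?_
    rw [← hy, QuotientGroup.eq, Subgroup.mem_subgroupOf]
    show (y : P)⁻¹ * 1 ∈ N
    rw [mul_one]; exact N.inv_mem h2
  have hdvd : orderOf C.μ ∣ Nat.card Ω := by
    rw [Nat.card_congr (MulAction.selfEquivSigmaOrbits Z Ω)]
    haveI := Fintype.ofFinite (MulAction.orbitRel.Quotient Z Ω)
    rw [Nat.card_sigma]
    exact Finset.dvd_sum fun ω _ => horb _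
  have hΩ : Nat.card Ω = N'.index - 1 := by
    haveI := Fintype.ofFinite (M ⧸ N')
    rw [Subgroup.index, Nat.card_eq_fintype_card, Nat.card_eq_fintype_card]
    simp only [Ω, Set.coe_setOf]
    rw [Fintype.card_subtype_compl, Fintype.card_subtype_eq]
  obtain ⟨j, hj⟩ := (D.isp.to_subgroup M).index N'
  have hj0 : j ≠ 0 := by
    rintro rfl
    rw [pow_zero, Subgroup.index_eq_one, hN', Subgroup.subgroupOf_eq_top] at hj
    exact hxN (hj hx)
  set n := Nat.card (F ≃+* F) with hn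
  have hsc : IndexOK n (orderOf C.μ) := C.scalar
  rw [hΩ, hj] at hdvd
  have hmod : 2 ^ j ≡ 1 [MOD orderOf C.μ] :=
    ((Nat.modEq_iff_dvd' (Nat.two_pow_pos j)).2 hdvd).symm
  have hjn : j % n = 0 := hsc.pow_two_inj (Nat.mod_lt _ (by have := hsc.two_le; omega))
    ((hsc.pow_two_mod j).symm.trans hmod)
  have hle : n ≤ j := Nat.le_of_dvd (Nat.pos_of_ne_zero hj0) (Nat.dvd_of_mod_eq_zero hjn)
  calc Nat.card D.V * Nat.card N ≤ N'.index * Nat.card N' := by
        rw [← C.card_eq, Nat.card_eq_fintype_card, FieldMaps.card_aut, hj,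
          show Nat.card N' = Nat.card N from Nat.card_congr (Subgroup.subgroupOfEquivOfLe hNM).toEquiv]
        exact Nat.mul_le_mul_right _ (Nat.pow_le_pow_right (by norm_num) hle)
    _ = Nat.card M := by rw [Subgroup.index_mul_card]

theorem one_ne_c : C.μ ^ 1 ≠ 1 := fun e => by
  rw [pow_one] at e
  have := Scalar.one_lt C.scalar
  rw [e, orderOf_one] at this
  omega

end Coord

theorem equivariant_alternating_trivial (C : Coord D F) (c : P → P → P)
    (hc : ∀ u ∈ D.V, ∀ v ∈ D.V, c u v ∈ D.V)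
    (hl : ∀ u ∈ D.V, ∀ u' ∈ D.V, ∀ v ∈ D.V, c (u * u') v = c u v * c u' v)
    (hr : ∀ u ∈ D.V, ∀ v ∈ D.V, ∀ v' ∈ D.V, c u (v * v') = c u v * c u v')
    (hK : ∀ (k : D.Y), ∀ u ∈ D.V, ∀ v ∈ D.V,
      c ((k : MulAut P) u) ((k : MulAut P) v) = (k : MulAut P) (c u v))
    (halt : ∀ u ∈ D.V, c u u = 1) : ∀ u ∈ D.V, ∀ v ∈ D.V, c u v = 1 := by
  classical
  haveI := Fintype.ofFinite (F ≃+* F)
  have hel : ∀ x y, C.el (x + y) = C.el x * C.el y := fun x y => by
    refine C.co_inj (C.el_mem _) (mul_mem (C.el_mem x) (C.el_mem y)) ?_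
    rw [C.co_mul _ (C.el_mem x) _ (C.el_mem y), C.co_el, C.co_el, C.co_el]
  let B : F →+ F →+ F := AddMonoidHom.mk' (fun x => AddMonoidHom.mk'
    (fun y => C.co (c (C.el x) (C.el y))) fun y y' => by
      rw [hel, hr _ (C.el_mem x) _ (C.el_mem y) _ (C.el_mem y'),
        C.co_mul _ (hc _ (C.el_mem x) _ (C.el_mem y)) _ (hc _ (C.el_mem x) _ (C.el_mem y'))])
    fun x x' => AddMonoidHom.ext fun y => by
      show C.co _ = C.co _ + C.co _
      rw [hel, hl _ (C.el_mem x) _ (C.el_mem x') _ (C.el_mem y),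
        C.co_mul _ (hc _ (C.el_mem x) _ (C.el_mem y)) _ (hc _ (C.el_mem x') _ (C.el_mem y))]
  have helc : ∀ x, C.el (C.μ * x) = (C.c : MulAut P) (C.el x) := fun x => by
    refine C.co_inj (C.el_mem _) (D.map_V _ (C.el_mem x)) ?_
    rw [C.co_el, C.co_c _ (C.el_mem x), C.co_el]
  have hequ : ∀ x y, B (C.μ * x) (C.μ * y) = C.μ * B x y := fun x y => by
    show C.co _ = C.μ * C.co _
    rw [helc, helc, hK C.c _ (C.el_mem x) _ (C.el_mem y), C.co_c _ (hc _ (C.el_mem x) _ (C.el_mem y))]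
  obtain ⟨T, hT⟩ := FieldMaps.exists_bicombo B
  have hfun : ∀ σ τ, T (σ, τ) ≠ 0 → σ = τ := by
    intro σ τ hne
    have e1 : ∀ x τ', ∑ σ', (T (σ', τ') * (σ' C.μ * τ' C.μ)) * σ' x =
        ∑ σ', (C.μ * T (σ', τ')) * σ' x := by
      intro x
      refine congrFun (FieldMaps.combo_injective
        (a₁ := fun τ' => ∑ σ', (T (σ', τ') * (σ' C.μ * τ' C.μ)) * σ' x)
        (a₂ := fun τ' => ∑ σ', (C.μ * T (σ', τ')) * σ' x) (AddMonoidHom.ext fun y => ?_))
      rw [FieldMaps.combo_apply, FieldMaps.combo_apply]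
      have e := hequ x y
      rw [hT, hT, Fintype.sum_prod_type, Finset.sum_comm, Fintype.sum_prod_type, Finset.mul_sum,
        ] at e
      simp only [Finset.mul_sum, map_mul] at e
      rw [Finset.sum_comm (γ := F ≃+* F) (f := fun σ' τ' => C.μ * _)] at e
      simp only [Finset.sum_mul]
      refine Eq.trans ?_ (e.trans ?_)
      · exact Finset.sum_congr rfl fun τ' _ => Finset.sum_congr rfl fun σ' _ => by ring
      · exact Finset.sum_congr rfl fun τ' _ => Finset.sum_congr rfl fun σ' _ => by ring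
    have e2 := congrFun (FieldMaps.combo_injective (a₁ := fun σ' => T (σ', τ) * (σ' C.μ * τ C.μ))
      (a₂ := fun σ' => C.μ * T (σ', τ)) (AddMonoidHom.ext fun x => by
        rw [FieldMaps.combo_apply, FieldMaps.combo_apply]; exact e1 x τ)) σ
    exact Scalar.two_eq_one C.scalar (ρ := RingEquiv.refl F)
      (mul_left_cancel₀ hne (e2.trans (mul_comm _ _)))
  have hdiag : ∀ x y, B x y = ∑ σ, T (σ, σ) * σ (x * y) := by
    intro x y
    rw [hT, Fintype.sum_prod_type]
    refine Finset.sum_congr rfl fun σ _ => ?_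
    rw [Finset.sum_eq_single σ (fun τ _ hne => ?_) (by simp), map_mul]
    by_cases h0 : T (σ, τ) = 0
    · rw [h0, zero_mul]
    · exact absurd (hfun σ τ h0).symm hne
  have hzero : (fun σ => T (σ, σ)) = (0 : (F ≃+* F) → F) := by
    refine FieldMaps.combo_injective (AddMonoidHom.ext fun z => ?_)
    rw [FieldMaps.combo_apply, FieldMaps.combo_apply]
    simp only [Pi.zero_apply, zero_mul, Finset.sum_const_zero]
    obtain ⟨x, rfl⟩ : ∃ x, x * x = z := ⟨(frobeniusEquiv F 2).symm z, by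
      rw [← pow_two]; exact frobeniusEquiv_symm_pow_p F 2 z⟩
    rw [← hdiag]
    show C.co _ = 0
    rw [halt _ (C.el_mem x), C.co_one]
  intro u hu v hv
  refine C.co_eq_zero (hc u hu v hv) ?_
  have := hdiag (C.co u) (C.co v)
  simp only [funext_iff.1 hzero, Pi.zero_apply, zero_mul, Finset.sum_const_zero] at this
  rw [← this]
  show _ = C.co (c (C.el _) (C.el _))
  rw [C.el_co u hu, C.el_co v hv]

theorem mul_comm_of_sq {x y : P} (hx : x * x ∈ D.V) (hy : y * y ∈ D.V) (hxy : x * y * (x * y) ∈ D.V) :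
    x * y * x⁻¹ * y⁻¹ ∈ D.V := by
  have e : x * y * x⁻¹ * y⁻¹ = x * y * (x * y) * ((y⁻¹ * (x * x)⁻¹ * y) * (y * y)⁻¹) := by group
  rw [e]
  refine D.V.mul_mem hxy (D.V.mul_mem ?_ (D.V.inv_mem hy))
  rw [mul_assoc, ← D.V_central (D.V.inv_mem hx) y, inv_mul_cancel_left]
  exact D.V.inv_mem hx

/-- A subgroup with all squares among the involutions has order at most `q ^ 3`. -/
theorem card_le_cube (C : Coord D F) {M : Subgroup P} (hVM : D.V ≤ M) (hM : ∀ x ∈ M, x * x ∈ D.V) :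
    Nat.card M ≤ Nat.card D.V ^ 3 := by
  classical
  haveI : Fact (Nat.Prime 2) := ⟨Nat.prime_two⟩
  set N := D.V.subgroupOf M with hN
  haveI : N.Normal := ⟨fun a ha g => by
    rw [Subgroup.mem_subgroupOf] at ha ⊢
    show (g : P) * a * (g : P)⁻¹ ∈ D.V
    rw [Datum.conj_fix ha]; exact ha⟩
  letI : CommGroup (M ⧸ N) :=
    { (inferInstance : Group (M ⧸ N)) with
      mul_comm := fun a b => by
        obtain ⟨x, rfl⟩ := QuotientGroup.mk_surjective a
        obtain ⟨y, rfl⟩ := QuotientGroup.mk_surjective b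
        rw [← QuotientGroup.mk_mul, ← QuotientGroup.mk_mul, QuotientGroup.eq, Subgroup.mem_subgroupOf]
        show ((x : P) * y)⁻¹ * (y * x) ∈ D.V
        have h := mul_comm_of_sq (hM _ (M.inv_mem y.2)) (hM _ (M.inv_mem x.2))
          (hM _ (M.mul_mem (M.inv_mem y.2) (M.inv_mem x.2)))
        rw [show ((x : P) * y)⁻¹ * (y * x) =
          (y : P)⁻¹ * (x : P)⁻¹ * (y : P)⁻¹⁻¹ * (x : P)⁻¹⁻¹ by group]
        exact h }
  have hF := C.card_eq
  letI : Algebra (ZMod 2) F := ZMod.algebra F 2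
  set n := Module.finrank (ZMod 2) F with hn
  have hq : Nat.card D.V = 2 ^ n := by
    rw [← hF, Module.natCard_eq_pow_finrank (K := ZMod 2), Nat.card_zmod]
  let ψ : F ≃ₗ[ZMod 2] (Fin n → ZMod 2) := (Module.finBasis (ZMod 2) F).equivFun
  let qP : P → Fin n → ZMod 2 := fun x => ψ (C.co (x * x))
  let bP : P → P → Fin n → ZMod 2 := fun x y => ψ (C.co (y * x * y⁻¹ * x⁻¹))
  have hcomV : ∀ x ∈ M, ∀ y ∈ M, x * y * x⁻¹ * y⁻¹ ∈ D.V := fun x hx y hy =>
    mul_comm_of_sq (hM x hx) (hM y hy) (hM _ (M.mul_mem hx hy))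
  have hqm : ∀ x ∈ M, ∀ y ∈ M, qP (x * y) = qP x + qP y + bP x y := by
    intro x hx y hy
    have hc := hcomV y hy x hx
    have e : x * y * (x * y) = (x * x) * (y * y) * (y * x * y⁻¹ * x⁻¹) := by
      calc x * y * (x * y) = x * (y * x * y⁻¹ * x⁻¹) * (x * (y * y)) := by group
        _ = (y * x * y⁻¹ * x⁻¹) * (x * x * (y * y)) := by rw [D.V_central hc x]; group
        _ = _ := (D.V_central hc _).symm
    show ψ (C.co _) = ψ (C.co _) + ψ (C.co _) + ψ (C.co _)
    rw [e, C.co_mul _ (mul_mem (hM x hx) (hM y hy)) _ hc, C.co_mul _ (hM x hx) _ (hM y hy), map_add,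
      map_add]
  have hbm : ∀ x ∈ M, ∀ y ∈ M, ∀ z ∈ M, bP (x * y) z = bP x z + bP y z := by
    intro x hx y hy z hz
    have h1 := hcomV z hz x hx
    have h2 := hcomV z hz y hy
    have e : z * (x * y) * z⁻¹ * (x * y)⁻¹ =
        (z * x * z⁻¹ * x⁻¹) * (z * y * z⁻¹ * y⁻¹) := by
      calc z * (x * y) * z⁻¹ * (x * y)⁻¹
          = z * x * z⁻¹ * ((z * y * z⁻¹ * y⁻¹) * x⁻¹) := by group
        _ = _ := by rw [← D.V_central h2 x⁻¹]; group
    show ψ (C.co _) = ψ (C.co _) + ψ (C.co _)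
    rw [e, C.co_mul _ h1 _ h2, map_add]
  have hq1 : ∀ v : M, v ∈ N → ∀ x : M, qP ((x : P) * v) = qP x := by
    intro v hv x
    have hv' : (v : P) ∈ D.V := Subgroup.mem_subgroupOf.1 hv
    have e : (x : P) * v * (x * v) = x * x := by
      calc (x : P) * v * (x * v) = x * ((v : P) * x) * v := by group
        _ = x * x * ((v : P) * v) := by rw [← D.V_central hv' x]; group
        _ = x * x := by rw [D.mem_V.1 hv', mul_one]
    show ψ (C.co _) = ψ (C.co _)
    rw [e]
  let q : M ⧸ N → Fin n → ZMod 2 := fun a => qP (a.out : M)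
  have hqmk : ∀ x : M, q (x : M ⧸ N) = qP x := by
    intro x
    obtain ⟨v, hv⟩ := QuotientGroup.mk_out_eq_mul N x
    show qP _ = _
    rw [hv]
    exact hq1 v v.2 x
  let b : M ⧸ N → M ⧸ N → Fin n → ZMod 2 := fun a c => q (a * c) - q a - q c
  have hbmk : ∀ x y : M, b (x : M ⧸ N) y = bP x y := by
    intro x y
    show q ((x : M ⧸ N) * y) - q (x : M ⧸ N) - q (y : M ⧸ N) = _
    rw [← QuotientGroup.mk_mul, hqmk, hqmk, hqmk, Subgroup.coe_mul, hqm _ x.2 _ y.2]
    abel
  have hbound := Suzuki2.card_le_of_aniso (Q := M ⧸ N) (fun a => by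
      obtain ⟨x, rfl⟩ := QuotientGroup.mk_surjective a
      rw [← QuotientGroup.mk_mul, QuotientGroup.eq_one_iff, Subgroup.mem_subgroupOf]
      exact hM x x.2) q b
    (fun a c => by show _ = _ + (q (a * c) - q a - q c); abel)
    (fun a c d => by
      obtain ⟨x, rfl⟩ := QuotientGroup.mk_surjective a
      obtain ⟨y, rfl⟩ := QuotientGroup.mk_surjective c
      obtain ⟨z, rfl⟩ := QuotientGroup.mk_surjective d
      rw [← QuotientGroup.mk_mul, hbmk, hbmk, hbmk, Subgroup.coe_mul]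
      exact hbm _ x.2 _ y.2 _ z.2)
    (fun a ha => by
      obtain ⟨x, rfl⟩ := QuotientGroup.mk_surjective a
      rw [hqmk] at ha
      rw [QuotientGroup.eq_one_iff, Subgroup.mem_subgroupOf, D.mem_V]
      refine C.co_eq_zero (hM x x.2) ?_
      exact (LinearEquiv.map_eq_zero_iff ψ).1 ha)
  rw [Subgroup.card_eq_card_quotient_mul_card_subgroup N,
    show Nat.card N = Nat.card D.V from Nat.card_congr (Subgroup.subgroupOfEquivOfLe hVM).toEquiv,
    pow_succ]
  refine Nat.mul_le_mul_right _ (hbound.trans (le_of_eq ?_))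
  rw [hq, ← pow_mul, mul_comm]

end Cfsg.Agent.SuzSolv
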