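/-
All squares are involutions when the involutions form a maximal abelian normal invariant subgroup.
-/
import Cfsg.Agent.Lib.SuzukiSolv.Center

set_option autoImplicit false

namespace Cfsg.Agent.SuzSolv

open Cfsg.Agent.RankOne

universe u

/-- An endomorphism without proper invariant subgroup gives a field structure. -/
theorem exists_irreducible_field {U : Type u} [AddCommGroup U] [Finite U] (T : AddMonoid.End U)
    (htwo : ∀ u : U, u + u = 0)
    (hirr : ∀ W : AddSubgroup U, (∀ u ∈ W, T u ∈ W) → W ≠ ⊥ → W = ⊤) (hne : ∃ u : U, u ≠ 0) :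
    ∃ (F : Type u) (_ : Field F) (_ : Fintype F) (_ : CharP F 2) (e : U ≃+ F) (lam : F),
      ∀ u, e (T u) = lam * e u := by
  classical
  obtain ⟨u0, hu0⟩ := hne
  let S : Subring (AddMonoid.End U) := Subring.closure {T}
  have hcT : ∀ f ∈ S, f * T = T * f := by
    intro f hf
    induction hf using Subring.closure_induction with
    | mem x hx => rw [Set.mem_singleton_iff] at hx; rw [hx]
    | zero => rw [zero_mul, mul_zero]
    | one => rw [one_mul, mul_one]
    | add a b _ _ ha hb => rw [add_mul, mul_add, ha, hb]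
    | neg a _ ha => rw [neg_mul, mul_neg, ha]
    | mul a b _ _ ha hb => rw [mul_assoc, hb, ← mul_assoc, ha, mul_assoc]
  have hcomm : ∀ f h : S, f * h = h * f := by
    intro f h
    refine Subtype.ext ?_
    show f.1 * h.1 = h.1 * f.1
    obtain ⟨h, hh⟩ := h
    show f.1 * h = h * f.1
    induction hh using Subring.closure_induction with
    | mem x hx => rw [Set.mem_singleton_iff] at hx; rw [hx]; exact hcT f.1 f.2
    | zero => rw [zero_mul, mul_zero]
    | one => rw [one_mul, mul_one]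
    | add a b _ _ ha hb => rw [add_mul, mul_add, ha, hb]
    | neg a _ ha => rw [neg_mul, mul_neg, ha]
    | mul a b _ _ ha hb => rw [← mul_assoc, ha, mul_assoc, hb, ← mul_assoc]
  have hT : T ∈ S := Subring.subset_closure rfl
  have hext : ∀ f h : S, f.1 u0 = h.1 u0 → f = h := by
    intro f h e
    let W : AddSubgroup U :=
      { carrier := {u | f.1 u = h.1 u}
        zero_mem' := by simp
        add_mem' := fun {a b} ha hb => by simp only [Set.mem_setOf_eq] at ha hb ⊢; rw [map_add, map_add, ha, hb]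
        neg_mem' := fun {a} ha => by simp only [Set.mem_setOf_eq] at ha ⊢; rw [map_neg, map_neg, ha] }
    have hWtop := hirr W (fun u hu => by
      show f.1 (T u) = h.1 (T u)
      exact (DFunLike.congr_fun (hcT f.1 f.2) u).trans ((congrArg T hu).trans
        (DFunLike.congr_fun (hcT h.1 h.2) u).symm))
      (fun hb => hu0 (AddSubgroup.mem_bot.1 (hb ▸ (show u0 ∈ W from e))))
    exact Subtype.ext (AddMonoidHom.ext fun u => (hWtop ▸ AddSubgroup.mem_top u : u ∈ W))
  have hsurj : ∀ u, ∃ f : S, f.1 u0 = u := by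
    let W : AddSubgroup U :=
      { carrier := {u | ∃ f : S, f.1 u0 = u}
        zero_mem' := ⟨0, rfl⟩
        add_mem' := by rintro _ _ ⟨f, rfl⟩ ⟨h, rfl⟩; exact ⟨f + h, rfl⟩
        neg_mem' := by rintro _ ⟨f, rfl⟩; exact ⟨-f, rfl⟩ }
    have hWtop := hirr W (fun u hu => by
      obtain ⟨f, rfl⟩ := hu
      exact ⟨⟨T, hT⟩ * f, rfl⟩) (fun hb => hu0 (AddSubgroup.mem_bot.1 (hb ▸ (show u0 ∈ W from ⟨1, rfl⟩))))
    exact fun u => (hWtop ▸ AddSubgroup.mem_top u : u ∈ W)
  haveI : Finite S := Finite.of_injective (fun f : S => f.1 u0) fun f h e => hext f h e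
  have hfield : IsField S := by
    refine ⟨⟨0, 1, fun e => hu0 (congrArg (fun f : S => f.1 u0) e).symm⟩, hcomm, fun {f} hf => ?_⟩
    have hinj : Function.Injective (fun h : S => f * h) := by
      intro a b e
      let W : AddSubgroup U := f.1.ker
      have hW : W = ⊥ := by
        by_contra hne'
        have hWtop := hirr W (fun u hu => by
          show f.1 (T u) = 0
          exact (DFunLike.congr_fun (hcT f.1 f.2) u).trans (by
            show T (f.1 u) = 0
            rw [show f.1 u = 0 from hu, map_zero])) hne'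
        exact hf (Subtype.ext (AddMonoidHom.ext fun u => (hWtop ▸ AddSubgroup.mem_top u : u ∈ W)))
      refine hext a b ?_
      have e' : f.1 (a.1 u0) = f.1 (b.1 u0) := congrArg (fun x : S => x.1 u0) e
      have : a.1 u0 - b.1 u0 ∈ W := by show f.1 _ = 0; rw [map_sub, e', sub_self]
      rw [hW, AddSubgroup.mem_bot, sub_eq_zero] at this
      exact this
    exact (Finite.injective_iff_surjective.1 hinj) 1
  letI : Field S := hfield.toField
  letI : Fintype S := Fintype.ofFinite S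
  haveI : CharP S 2 := CharTwo.of_one_ne_zero_of_two_eq_zero one_ne_zero (by
    refine hext _ _ ?_
    rw [← one_add_one_eq_two]
    exact htwo u0)
  let ev : S ≃+ U := AddEquiv.ofBijective (AddMonoidHom.mk' (fun f : S => f.1 u0) fun _ _ => rfl)
    ⟨fun f h e => hext f h e, hsurj⟩
  refine ⟨S, inferInstance, inferInstance, inferInstance, ev.symm, ⟨T, hT⟩, fun u => ev.injective ?_⟩
  rw [ev.apply_symm_apply]
  show T u = T ((ev.symm u).1 u0)
  exact congrArg T (ev.apply_symm_apply u).symm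

/-- Transfer of a scalar through an equivariant map. -/
theorem scalar_transfer {F : Type} [Field F] [Fintype F] [CharP F 2] {F' : Type u} [Field F']
    [Fintype F'] [CharP F' 2] (ι : F ≃+* F') {μ : F} (hμ : Scalar μ) {B : F' →+ F' →+ F'}
    (hB : ∃ u v, B u v ≠ 0) {lam : F'} (hequ : ∀ u v, B (lam * u) (lam * v) = ι μ * B u v) :
    Scalar lam ∧ (Nat.card (F' ≃+* F') = 6 → orderOf lam = 21 → 21 ≤ orderOf (ι μ)) := by
  classical
  have hn : Nat.card (F' ≃+* F') = Nat.card (F ≃+* F) := by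
    refine Nat.pow_right_injective (le_refl 2) ?_
    show 2 ^ _ = 2 ^ _
    rw [← FieldMaps.card_aut, ← FieldMaps.card_aut, Fintype.card_congr ι.toEquiv]
  have hord : orderOf (ι μ) = orderOf μ :=
    orderOf_injective ι.toMulEquiv.toMonoidHom ι.injective μ
  obtain ⟨u, v, huv⟩ := hB
  have hpow : ∀ j, B (lam ^ j * u) (lam ^ j * v) = ι μ ^ j * B u v := by
    intro j
    induction j with
    | zero => simp
    | succ j ih => rw [pow_succ', mul_assoc, mul_assoc, hequ, ih, pow_succ', mul_assoc]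
  have hlam0 : lam ≠ 0 := by
    rintro rfl
    have e := hequ u v
    rw [zero_mul, zero_mul, map_zero] at e
    exact mul_ne_zero ((map_ne_zero ι).2 (Scalar.ne_zero hμ)) huv e.symm
  have hdvd : orderOf μ ∣ orderOf lam := by
    rw [← hord]
    refine orderOf_dvd_of_pow_eq_one ?_
    have e := hpow (orderOf lam)
    rw [pow_orderOf_eq_one, one_mul, one_mul] at e
    exact (mul_eq_right₀ huv).1 e.symm
  have hdvd' : orderOf lam ∣ 2 ^ Nat.card (F' ≃+* F') - 1 := by
    rw [← FieldMaps.card_aut]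
    exact orderOf_dvd_of_pow_eq_one (FiniteField.pow_card_sub_one_eq_one _ hlam0)
  obtain ⟨htwo, d, hdn, hd⟩ := hμ
  obtain ⟨k, hk⟩ := hdvd
  obtain ⟨d', hd'⟩ := hdvd'
  have hpos : 0 < orderOf μ := (Scalar.one_lt (show Scalar μ from ⟨htwo, d, hdn, hd⟩)).le.trans' Nat.zero_lt_one
  have hkd : d = k * d' := by
    refine Nat.eq_of_mul_eq_mul_left hpos ?_
    rw [← mul_assoc, ← hk, ← hd', hd, hn]
  refine ⟨⟨hn ▸ htwo, d', hn ▸ (Dvd.intro_left k hkd.symm).trans hdn, hd'.symm⟩, fun h6 _ => ?_⟩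
  rw [hord]
  rw [hn] at h6
  rw [h6] at hdn hd
  have := Nat.le_of_dvd (by norm_num) hdn
  norm_num at hd
  interval_cases d <;> omega

/-- An alternating biadditive map commuting with scalars has transitive isotropy. -/
theorem isotropy_trans {F : Type*} [Field F] [Fintype F] [CharP F 2]
    (B : F →+ F →+ F) (halt : ∀ u, B u u = 0) (hB : ∃ u v, B u v ≠ 0)
    {lam s : F} (hlam : Scalar lam) (hs6 : Nat.card (F ≃+* F) = 6 → orderOf lam = 21 → 21 ≤ orderOf s)
    (hequ : ∀ u v, B (lam * u) (lam * v) = s * B u v)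
    {d d' d'' : F} (hd : d ≠ 0) (h1 : B d d' = 0) (h2 : B d d'' = 0) : B d' d'' = 0 := by
  classical
  haveI := Fintype.ofFinite (F ≃+* F)
  obtain ⟨C, hC⟩ := FieldMaps.exists_bicombo B
  have huniq : ∀ C₁ C₂ : (F ≃+* F) × (F ≃+* F) → F,
      (∀ x y : F, ∑ p, C₁ p * (p.1 x * p.2 y) = ∑ p, C₂ p * (p.1 x * p.2 y)) → C₁ = C₂ := by
    intro C₁ C₂ h
    funext ⟨σ, τ⟩
    have e1 : ∀ x τ, ∑ σ, C₁ (σ, τ) * σ x = ∑ σ, C₂ (σ, τ) * σ x := fun x τ => by
      refine congrFun (FieldMaps.combo_injective (a₁ := fun τ => ∑ σ, C₁ (σ, τ) * σ x)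
        (a₂ := fun τ => ∑ σ, C₂ (σ, τ) * σ x) (AddMonoidHom.ext fun y => ?_)) τ
      rw [FieldMaps.combo_apply, FieldMaps.combo_apply]
      have e' : ∀ C : (F ≃+* F) × (F ≃+* F) → F,
          (∑ p, C p * (p.1 x * p.2 y)) = ∑ τ, (∑ σ, C (σ, τ) * σ x) * τ y := fun C => by
        rw [Fintype.sum_prod_type, Finset.sum_comm]
        refine Finset.sum_congr rfl fun τ _ => ?_
        rw [Finset.sum_mul]
        exact Finset.sum_congr rfl fun σ _ => by ring
      rw [← e', ← e']
      exact h x y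
    exact congrFun (FieldMaps.combo_injective (a₁ := fun σ => C₁ (σ, τ))
      (a₂ := fun σ => C₂ (σ, τ)) (AddMonoidHom.ext fun x => by
        rw [FieldMaps.combo_apply, FieldMaps.combo_apply]; exact e1 x τ)) σ
  have hfun : ∀ p, C p ≠ 0 → p.1 lam * p.2 lam = s := fun p hp => by
    have e := congrFun (huniq (fun p => C p * (p.1 lam * p.2 lam)) (fun p => s * C p)
      fun x y => by
        calc ∑ p, C p * (p.1 lam * p.2 lam) * (p.1 x * p.2 y)
            = B (lam * x) (lam * y) := by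
              rw [hC]; exact Finset.sum_congr rfl fun p _ => by rw [map_mul, map_mul]; ring
          _ = _ := by
              rw [hequ, hC, Finset.mul_sum]
              exact Finset.sum_congr rfl fun p _ => by ring) p
    exact mul_left_cancel₀ hp (e.trans (mul_comm _ _))
  obtain ⟨⟨σ, τ⟩, hp⟩ : ∃ p, C p ≠ 0 := by
    by_contra! h
    obtain ⟨u, v, huv⟩ := hB
    exact huv (by rw [hC]; simp [h])
  have hsupp : ∀ p, p ≠ (σ, τ) → p ≠ (τ, σ) → C p = 0 := by
    intro p hne1 hne2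
    by_contra hp'
    rcases Scalar.pair hlam (σ := p.1) (τ := p.2) (ρ := σ) (π := τ)
      ((hfun p hp').trans (hfun _ hp).symm)
      (fun h6 h21 => by rw [hfun p hp', h21]; exact hs6 h6 h21) with
      ⟨e1, e2⟩ | ⟨e1, e2⟩
    · exact hne1 (Prod.ext e1 e2)
    · exact hne2 (Prod.ext e1 e2)
  have hστ : σ ≠ τ := by
    rintro rfl
    have e := halt 1
    rw [hC, Finset.sum_eq_single (σ, σ) (fun p _ hne => by rw [hsupp p hne hne, zero_mul])
      (by simp), map_one, mul_one, mul_one] at e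
    exact hp e
  have hBeq : ∀ u v, B u v = C (σ, τ) * (σ u * τ v) + C (τ, σ) * (τ u * σ v) := by
    intro u v
    rw [hC, ← Finset.sum_pair (f := fun p : (F ≃+* F) × (F ≃+* F) => C p * (p.1 u * p.2 v))
      (show (σ, τ) ≠ (τ, σ) from fun e => hστ (congrArg Prod.fst e))]
    refine (Finset.sum_subset (Finset.subset_univ _) fun p _ hp' => ?_).symm
    simp only [Finset.mem_insert, Finset.mem_singleton, not_or] at hp'
    rw [hsupp p hp'.1 hp'.2, zero_mul]
  have hsymm : C (τ, σ) = C (σ, τ) := by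
    have e := halt 1
    rw [hBeq, map_one, map_one, mul_one, mul_one, mul_one] at e
    exact (CharTwo.add_eq_zero.1 e).symm
  simp only [hBeq, hsymm, ← mul_add, mul_eq_zero, hp, false_or] at h1 h2 ⊢
  refine (mul_eq_zero.1 (?_ : σ d * τ d * (σ d' * τ d'' + τ d' * σ d'') = 0)).resolve_left
    (mul_ne_zero (by simpa using hd) (by simpa using hd))
  linear_combination σ d * τ d'' * h1 + (-(σ d * τ d')) * h2 +
    (σ d * τ d * τ d' * σ d'') * (CharTwo.two_eq_zero (R := F))

namespace Datum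

open Subgroup

variable {P : Type u} [Group P] [Finite P] {D : Datum P}

theorem V_normal : D.V.Normal := ⟨fun a ha g => by rw [conj_fix ha]; exact ha⟩

theorem V_inv : D.Inv D.V :=
  ⟨fun a _ b hb => D.V_central hb a, fun k a ha => D.map_V _ ha, V_normal, le_rfl⟩

theorem comm_mem_of_layer {N : Subgroup P} [N.Normal] {z : P} (hz : z ∈ layer N) (g : P) :
    g * z * g⁻¹ * z⁻¹ ∈ N := (mem_layer.1 hz).2 g

theorem layer_normal {N : Subgroup P} [N.Normal] (hN : N ≤ layer N) : (layer N).Normal := ⟨fun z hz g => by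
  have := (layer N).mul_mem (hN (comm_mem_of_layer hz g)) hz
  rwa [inv_mul_cancel_right] at this⟩

theorem le_layer {N : Subgroup P} [N.Normal] : N ≤ layer N := fun a ha =>
  mem_layer.2 ⟨N.mul_mem ha ha, fun g => N.mul_mem (‹N.Normal›.conj_mem a ha g) (N.inv_mem ha)⟩

theorem layer_map_stable {N : Subgroup P} [N.Normal]
    (hN : ∀ k : D.Y, ∀ a ∈ N, (k : MulAut P) a ∈ N) (k : D.Y) {y : P} (hy : y ∈ layer N) :
    (k : MulAut P) y ∈ layer N := by
  rw [mem_layer] at hy ⊢
  refine ⟨by rw [← map_mul]; exact hN k _ hy.1, fun g => ?_⟩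
  obtain ⟨g, rfl⟩ := (k : MulAut P).surjective g
  rw [← map_inv, ← map_inv, ← map_mul, ← map_mul, ← map_mul]
  exact hN k _ (hy.2 g)

instance instVNormal : D.V.Normal := V_normal

/-- If the second layer has order `q ^ 2`, commuting is transitive outside the involutions. -/
theorem commute_trans (hmax : ∀ B, D.Inv B → B = D.V)
    (h2 : Nat.card (layer D.V) = Nat.card D.V * Nat.card D.V)
    {a b c : P} (ha : a ∈ layer D.V) (hb : b ∈ layer D.V) (hc : c ∈ layer D.V) (haV : a ∉ D.V)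
    (hab : a * b = b * a) (hac : a * c = c * a) : b * c = c * b := by
  classical
  set L := layer D.V with hL
  have hcomV : ∀ x ∈ L, ∀ y ∈ L, x * y * x⁻¹ * y⁻¹ ∈ D.V := fun x _ y hy =>
    comm_mem_of_layer hy x
  have hLK : ∀ k : D.Y, ∀ x ∈ L, (k : MulAut P) x ∈ L := fun k x hx =>
    layer_map_stable (fun k a ha => D.map_V _ ha) k hx
  set N := D.V.subgroupOf L with hN
  haveI : N.Normal := inferInstanceAs (D.V.subgroupOf L).Normal
  have hNmem : ∀ x : L, x ∈ N ↔ (x : P) ∈ D.V := fun x => Iff.rfl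
  have hNk : ∀ (k : D.Y) (x y : L), (x : L ⧸ N) = (y : L ⧸ N) →
      ((⟨(k : MulAut P) x, hLK k x x.2⟩ : L) : L ⧸ N) = (⟨(k : MulAut P) y, hLK k y y.2⟩ : L) := by
    intro k x y h
    rw [QuotientGroup.eq, hNmem] at h ⊢
    show ((k : MulAut P) x)⁻¹ * (k : MulAut P) y ∈ D.V
    rw [← map_inv, ← map_mul]
    exact D.map_V _ h
  letI : CommGroup (L ⧸ N) :=
    { (inferInstance : Group (L ⧸ N)) with
      mul_comm := fun x y => by
        obtain ⟨x, rfl⟩ := QuotientGroup.mk_surjective x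
        obtain ⟨y, rfl⟩ := QuotientGroup.mk_surjective y
        rw [← QuotientGroup.mk_mul, ← QuotientGroup.mk_mul, QuotientGroup.eq, hNmem]
        show ((x : P) * y)⁻¹ * (y * x) ∈ D.V
        rw [show ((x : P) * y)⁻¹ * (y * x) =
          (y : P)⁻¹ * (x : P)⁻¹ * (y : P)⁻¹⁻¹ * (x : P)⁻¹⁻¹ by group]
        exact hcomV _ (L.inv_mem y.2) _ (L.inv_mem x.2) }
  let act : D.Y → L ⧸ N → L ⧸ N := fun k => Quotient.lift
    (fun x : L => ((⟨(k : MulAut P) x, hLK k x x.2⟩ : L) : L ⧸ N))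
    (fun x y h => hNk k x y (Quotient.sound h))
  have hactmk : ∀ (k : D.Y) (x : L), act k (x : L ⧸ N) = (⟨(k : MulAut P) x, hLK k x x.2⟩ : L) :=
    fun k x => rfl
  have hactmul : ∀ (k : D.Y) (x y : L ⧸ N), act k (x * y) = act k x * act k y := by
    intro k x y
    obtain ⟨x, rfl⟩ := QuotientGroup.mk_surjective x
    obtain ⟨y, rfl⟩ := QuotientGroup.mk_surjective y
    rw [← QuotientGroup.mk_mul, hactmk, hactmk, hactmk, ← QuotientGroup.mk_mul]
    exact congrArg _ (Subtype.ext (map_mul (k : MulAut P) (x : P) y))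
  have hact1 : ∀ (k : D.Y), act k 1 = 1 := fun k => by
    have e := hactmul k 1 1
    rw [one_mul] at e
    exact left_eq_mul.1 e
  obtain ⟨F, _, _, _, ⟨C⟩, hF⟩ := exists_coord D
  have hirr : ∀ W : AddSubgroup (Additive (L ⧸ N)),
      (∀ u ∈ W, Additive.ofMul (act C.c u.toMul) ∈ W) → W ≠ ⊥ → W = ⊤ := by
    intro W hW hWne
    let W' : Subgroup (L ⧸ N) := AddSubgroup.toSubgroup' W
    let M : Subgroup P := (W'.comap (QuotientGroup.mk' N)).map L.subtype
    have hMK : ∀ x ∈ M, (C.c : MulAut P) x ∈ M := by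
      rintro _ ⟨x, hx, rfl⟩
      exact ⟨⟨(C.c : MulAut P) x, hLK C.c x x.2⟩, hW _ hx, rfl⟩
    have hVM : D.V ≤ M := fun v hv => ⟨⟨v, le_layer hv⟩, by
      show ((⟨v, le_layer hv⟩ : L) : L ⧸ N) ∈ W'
      rw [(QuotientGroup.eq_one_iff _).2 ((hNmem _).2 hv)]
      exact one_mem _, rfl⟩
    obtain ⟨u, hu, hu0⟩ : ∃ u ∈ W, u ≠ 0 := by
      by_contra! hall
      exact hWne ((AddSubgroup.eq_bot_iff_forall _).2 hall)
    obtain ⟨x, hx⟩ := QuotientGroup.mk_surjective u.toMul
    have hxM : (x : P) ∈ M := ⟨x, by show (x : L ⧸ N) ∈ W'; rw [hx]; exact hu, rfl⟩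
    have hxV : (x : P) ∉ D.V := fun h' => hu0 (Additive.toMul.injective (by
      rw [← hx, (QuotientGroup.eq_one_iff x).2 ((hNmem x).2 h')]; rfl))
    have hj := C.card_jump (fun a ha => D.map_V _ ha) hMK hVM hxM hxV
    have hML : M ≤ L := Subgroup.map_subtype_le _
    have hMtop : M = L := Subgroup.eq_of_le_of_card_ge hML (h2.le.trans hj)
    refine eq_top_iff.2 fun w _ => ?_
    obtain ⟨y, hy⟩ := QuotientGroup.mk_surjective w.toMul
    obtain ⟨y', hy', e'⟩ : (y : P) ∈ M := hMtop.symm ▸ y.2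
    obtain rfl : y' = y := Subtype.ext e'
    have h' : (y' : L ⧸ N) ∈ W' := hy'
    rw [hy] at h'
    exact h'
  have hcardU : Nat.card (L ⧸ N) = Nat.card D.V := by
    have h := Subgroup.card_eq_card_quotient_mul_card_subgroup N
    rw [h2, show Nat.card N = Nat.card D.V from
      Nat.card_congr (Subgroup.subgroupOfEquivOfLe le_layer).toEquiv] at h
    exact (Nat.eq_of_mul_eq_mul_right Nat.card_pos h).symm
  have haN : ((⟨a, ha⟩ : L) : L ⧸ N) ≠ 1 := fun e => haV ((hNmem _).1 ((QuotientGroup.eq_one_iff _).1 e))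
  let T : AddMonoid.End (Additive (L ⧸ N)) := AddMonoidHom.mk'
    (fun u => Additive.ofMul (act C.c u.toMul)) fun u w => congrArg Additive.ofMul (hactmul C.c u.toMul w.toMul)
  obtain ⟨F', _, _, _, e, lam, hlam⟩ := exists_irreducible_field T
    (fun u => by
      obtain ⟨x, hx⟩ := QuotientGroup.mk_surjective u.toMul
      refine Additive.toMul.injective ?_
      show u.toMul * u.toMul = 1
      rw [← hx, ← QuotientGroup.mk_mul, QuotientGroup.eq_one_iff, hNmem]
      exact (mem_layer.1 x.2).1)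
    hirr ⟨Additive.ofMul ((⟨a, ha⟩ : L) : L ⧸ N), fun e => haN (congrArg Additive.toMul e)⟩
  have hcard : Fintype.card F = Fintype.card F' := by
    rw [← Nat.card_eq_fintype_card, ← Nat.card_eq_fintype_card, hF, ← hcardU]
    exact Nat.card_congr (Additive.ofMul.trans e.toEquiv)
  let ι := FiniteField.ringEquivOfCardEq (K := F) (K' := F') hcard
  let br : P → P → F' := fun x y => ι (C.co (x * y * x⁻¹ * y⁻¹))
  have hbl : ∀ x ∈ L, ∀ x' ∈ L, ∀ y ∈ L, br (x * x') y = br x y + br x' y := by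
    intro x hx x' hx' y hy
    have e1 : x * x' * y * (x * x')⁻¹ * y⁻¹ =
        (x * y * x⁻¹ * y⁻¹) * (x' * y * x'⁻¹ * y⁻¹) := by
      calc x * x' * y * (x * x')⁻¹ * y⁻¹ = x * (x' * y * x'⁻¹ * y⁻¹) * (y * x⁻¹ * y⁻¹) := by group
        _ = (x' * y * x'⁻¹ * y⁻¹) * (x * y * x⁻¹ * y⁻¹) := by
          rw [D.V_central (hcomV x' hx' y hy) x]; group
        _ = _ := (D.V_central (hcomV x' hx' y hy) _).symm
    show ι _ = ι _ + ι _
    rw [e1, C.co_mul _ (hcomV x hx y hy) _ (hcomV x' hx' y hy), map_add]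
  have hbs : ∀ x ∈ L, ∀ y ∈ L, br x y = br y x := by
    intro x hx y hy
    show ι _ = ι _
    refine congrArg (fun v => ι (C.co v)) ?_
    rw [show x * y * x⁻¹ * y⁻¹ = (y * x * y⁻¹ * x⁻¹)⁻¹ by group]
    exact inv_eq_of_mul_eq_one_right (D.mem_V.1 (hcomV y hy x hx))
  have hbN : ∀ x ∈ D.V, ∀ y, br x y = 0 := fun x hx y => by
    show ι _ = 0
    rw [← D.V_central hx y, mul_inv_cancel_right, mul_inv_cancel, C.co_one, map_zero]
  have hbq : ∀ x x' y : L, (x : L ⧸ N) = x' → br x y = br x' y := by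
    intro x x' y h
    rw [QuotientGroup.eq, hNmem] at h
    have h' : (x : P)⁻¹ * x' ∈ D.V := h
    rw [show (x' : P) = x * ((x : P)⁻¹ * x') by group, hbl _ x.2 _ (le_layer h') _ y.2,
      hbN _ h', add_zero]
  let pre : F' → L := fun u => (Additive.toMul (e.symm u) : L ⧸ N).out
  have hpre : ∀ u, ((pre u : L) : L ⧸ N) = Additive.toMul (e.symm u) := fun u => QuotientGroup.out_eq' _
  have hadd : ∀ u u' v, br (pre (u + u')) (pre v) = br (pre u) (pre v) + br (pre u') (pre v) := by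
    intro u u' v
    rw [← hbl _ (pre u).2 _ (pre u').2 _ (pre v).2, ← Subgroup.coe_mul]
    refine hbq _ _ _ ?_
    rw [QuotientGroup.mk_mul, hpre, hpre, hpre, map_add, toMul_add]
  have hadd' : ∀ u v v', br (pre u) (pre (v + v')) = br (pre u) (pre v) + br (pre u) (pre v') := by
    intro u v v'
    rw [hbs _ (pre u).2 _ (pre (v + v')).2, hadd, hbs _ (pre v).2 _ (pre u).2,
      hbs _ (pre v').2 _ (pre u).2]
  let B : F' →+ F' →+ F' := AddMonoidHom.mk' (fun u => AddMonoidHom.mk' (fun v => br (pre u) (pre v))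
    (hadd' u)) (fun u u' => AddMonoidHom.ext fun v => hadd u u' v)
  let img : ∀ x, x ∈ L → F' := fun x hx => e (Additive.ofMul ((⟨x, hx⟩ : L) : L ⧸ N))
  have himg : ∀ x (hx : x ∈ L) y (hy : y ∈ L), B (img x hx) (img y hy) = br x y := by
    intro x hx y hy
    have e1 : ((pre (img x hx) : L) : L ⧸ N) = (⟨x, hx⟩ : L) := by
      rw [hpre]; simp [img]
    have e2 : ((pre (img y hy) : L) : L ⧸ N) = (⟨y, hy⟩ : L) := by
      rw [hpre]; simp [img]
    show br (pre (img x hx)) (pre (img y hy)) = _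
    rw [hbq _ _ _ e1, hbs _ hx _ (pre (img y hy)).2, hbq _ _ ⟨x, hx⟩ e2, hbs _ hy _ hx]
  have hbr : ∀ x ∈ L, ∀ y ∈ L, br x y = 0 ↔ x * y = y * x := by
    intro x hx y hy
    constructor
    · intro h
      have h' := C.co_eq_zero (hcomV x hx y hy) ((map_eq_zero_iff ι ι.injective).1 h)
      exact mul_inv_eq_iff_eq_mul.1 (mul_inv_eq_one.1 h')
    · intro h
      show ι _ = 0
      rw [h, mul_inv_cancel_right, mul_inv_cancel, C.co_one, map_zero]
  have hd : img a ha ≠ 0 := fun h => haN (by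
    have := (AddEquiv.map_eq_zero_iff e).1 h
    exact congrArg Additive.toMul this)
  have hBne : ∃ u v, B u v ≠ 0 := by
    by_contra! h
    have hcomm : ∀ x ∈ L, ∀ y ∈ L, x * y = y * x := fun x hx y hy =>
      (hbr x hx y hy).1 (by rw [← himg x hx y hy]; exact h _ _)
    exact haV ((hmax L ⟨hcomm, hLK, layer_normal le_layer, le_layer⟩) ▸ ha)
  have hpk : ∀ u, lam * u = img ((C.c : MulAut P) (pre u)) (hLK C.c _ (pre u).2) := fun u => by
    show _ = e (Additive.ofMul _)
    rw [← hactmk, hpre]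
    show _ = e (T (e.symm u))
    rw [hlam, e.apply_symm_apply]
  have hequ : ∀ u v, B (lam * u) (lam * v) = ι C.μ * B u v := fun u v => by
    rw [hpk u, hpk v, himg _ (hLK C.c _ (pre u).2) _ (hLK C.c _ (pre v).2)]
    show ι (C.co _) = ι _ * ι (C.co _)
    rw [← map_mul, ← map_inv, ← map_mul, ← map_inv, ← map_mul, ← map_mul,
      C.co_c _ (hcomV _ (pre u).2 _ (pre v).2)]
  obtain ⟨hlsc, hs6⟩ := scalar_transfer ι C.scalar hBne hequ
  have hres := isotropy_trans B (fun u => (hbr _ (pre u).2 _ (pre u).2).2 rfl) hBne hlsc hs6 hequ hd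
    ((himg a ha b hb).trans ((hbr a ha b hb).2 hab)) ((himg a ha c hc).trans ((hbr a ha c hc).2 hac))
  exact (hbr b hb c hc).1 ((himg b hb c hc).symm.trans hres)

/-- If the involutions are maximal among abelian normal invariant subgroups then all squares are
involutions. -/
theorem sq_mem_of_max_eq (hmax : ∀ B, D.Inv B → B = D.V) (y : P) : y * y ∈ D.V := by
  classical
  obtain ⟨F, _, _, _, ⟨C⟩, -⟩ := exists_coord D
  set L2 := layer D.V with hL2
  haveI hL2n : L2.Normal := layer_normal le_layer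
  set L3 := layer L2 with hL3
  have hVK : ∀ k : D.Y, ∀ a ∈ D.V, (k : MulAut P) a ∈ D.V := fun k a ha => D.map_V _ ha
  have hL2K : ∀ k : D.Y, ∀ a ∈ L2, (k : MulAut P) a ∈ L2 := fun k a ha => layer_map_stable hVK k ha
  have hL3K : ∀ k : D.Y, ∀ a ∈ L3, (k : MulAut P) a ∈ L3 := fun k a ha => layer_map_stable hL2K k ha
  have hVL2 : D.V ≤ L2 := le_layer
  have hcom2 : ∀ z ∈ L2, ∀ g, g * z * g⁻¹ * z⁻¹ ∈ D.V := fun z hz g => comm_mem_of_layer hz g
  have hsq3 : ∀ x ∈ L3, x * x ∈ D.V := by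
    intro x hx
    have hxx := (mem_layer.1 hx).1
    have hR : D.Inv (L2 ⊓ centralizer (L2 : Set P)) :=
      ⟨fun a ha b hb => (Subgroup.mem_centralizer_iff.1 (Subgroup.mem_inf.1 hb).2 a
          (Subgroup.mem_inf.1 ha).1),
        fun k a ha => Subgroup.mem_inf.2 ⟨hL2K k a (Subgroup.mem_inf.1 ha).1,
          Subgroup.mem_centralizer_iff.2 fun z hz => by
            obtain ⟨z', rfl⟩ := (k : MulAut P).surjective z
            have hz' : z' ∈ L2 := by
              have := hL2K k⁻¹ _ hz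
              simpa using this
            rw [← map_mul, ← map_mul,
              Subgroup.mem_centralizer_iff.1 (Subgroup.mem_inf.1 ha).2 z' hz']⟩,
        inferInstance, fun v hv => Subgroup.mem_inf.2 ⟨hVL2 hv,
          Subgroup.mem_centralizer_iff.2 fun z _ => D.V_central hv z⟩⟩
    rw [← hmax _ hR]
    refine Subgroup.mem_inf.2 ⟨hxx, Subgroup.mem_centralizer_iff.2 fun z hz => ?_⟩
    have hδ := hcom2 z hz x
    have e : x * x * z * (x * x)⁻¹ * z⁻¹ = 1 := by
      calc x * x * z * (x * x)⁻¹ * z⁻¹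
          = x * (x * z * x⁻¹ * z⁻¹) * (z * x⁻¹ * z⁻¹) := by group
        _ = (x * z * x⁻¹ * z⁻¹) * (x * z * x⁻¹ * z⁻¹) := by rw [D.V_central hδ x]; group
        _ = 1 := D.mem_V.1 hδ
    exact (mul_inv_eq_iff_eq_mul.1 (mul_inv_eq_one.1 e)).symm
  by_cases hL32 : L3 = L2
  · have htop : L2 = ⊤ := by
      by_contra hne
      obtain ⟨z, hz, hz2⟩ := exists_layer_not_mem (A := L2) D.isp hne
      exact hz2 (hL32 ▸ hz)
    exact (mem_layer.1 (htop ▸ Subgroup.mem_top y : y ∈ L2)).1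
  exfalso
  obtain ⟨x0, hx0, hx02⟩ := SetLike.exists_of_lt (lt_of_le_of_ne (le_layer : L2 ≤ L3) (Ne.symm hL32))
  have hqpos : 0 < Nat.card D.V := Nat.card_pos
  have hV2 : D.V ≠ L2 := fun e => by
    have htop : D.V = ⊤ := by
      by_contra hne
      obtain ⟨z, hz, hzV⟩ := exists_layer_not_mem (A := D.V) D.isp hne
      exact hzV (e.symm ▸ hz)
    exact hx02 (e ▸ htop.symm ▸ Subgroup.mem_top x0)
  obtain ⟨z0, hz0, hz0V⟩ := SetLike.exists_of_lt (lt_of_le_of_ne hVL2 hV2)
  have j2 := C.card_jump (hVK C.c) (hL2K C.c) hVL2 hz0 hz0V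
  have j3 := C.card_jump (hL2K C.c) (hL3K C.c) le_layer hx0 hx02
  have hcube := card_le_cube C (hVL2.trans le_layer) hsq3
  have hcard2 : Nat.card L2 = Nat.card D.V * Nat.card D.V := by
    refine le_antisymm (Nat.le_of_mul_le_mul_left ?_ hqpos) j2
    calc Nat.card D.V * Nat.card L2 ≤ Nat.card D.V ^ 3 := j3.trans hcube
      _ = _ := by ring
  have trans' : ∀ {a b c : P}, a ∈ L2 → b ∈ L2 → c ∈ L2 → a ∉ D.V →
      a * b = b * a → a * c = c * a → b * c = c * b := commute_trans hmax hcard2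
  obtain ⟨dd, hddef⟩ : ∃ dd : P → P → P, ∀ g x, dd g x = g * x * g⁻¹ * x⁻¹ := ⟨_, fun _ _ => rfl⟩
  have hdd : ∀ g, ∀ x ∈ L3, dd g x ∈ L2 := fun g x hx => by rw [hddef]; exact (mem_layer.1 hx).2 g
  have hinv : ∀ g, ∀ x ∈ L3, dd g x * x * dd g x * x⁻¹ = 1 := by
    intro g x hx
    have e : dd g x * x * (dd g x * x) = x * x := by
      calc dd g x * x * (dd g x * x) = g * (x * x) * g⁻¹ := by simp only [hddef]; group
        _ = x * x := conj_fix (hsq3 x hx) g
    calc dd g x * x * dd g x * x⁻¹ = dd g x * x * (dd g x * x) * (x * x)⁻¹ := by group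
      _ = 1 := by rw [e, mul_inv_cancel]
  have hmulL : ∀ g g', ∀ x ∈ L3, ∃ v ∈ D.V, dd (g * g') x = dd g' x * dd g x * v := by
    intro g g' x hx
    have hc := hcom2 _ (hdd g' x hx) g
    refine ⟨_, hc, ?_⟩
    rw [D.V_central hc]
    simp only [hddef]; group
  have hpair : ∀ g g', ∀ x ∈ L3, dd g x * dd g' x = dd g' x * dd g x := by
    intro g g' x hx
    obtain ⟨v, hv, he⟩ := hmulL g g' x hx
    have h0 := hinv (g * g') x hx
    rw [he] at h0
    have gen : ∀ a z : P, a * v * z * (a * v) * z⁻¹ = a * z * a * z⁻¹ := fun a z => by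
      calc a * v * z * (a * v) * z⁻¹ = a * (v * z) * a * (v * z⁻¹) := by group
        _ = a * (z * v) * a * (z⁻¹ * v) := by rw [D.V_central hv z, D.V_central hv z⁻¹]
        _ = a * z * (v * (a * z⁻¹)) * v := by group
        _ = a * z * (a * z⁻¹ * v) * v := by rw [D.V_central hv (a * z⁻¹)]
        _ = a * z * a * z⁻¹ * (v * v) := by group
        _ = a * z * a * z⁻¹ := by rw [D.mem_V.1 hv, mul_one]
    have h1 : dd g' x * dd g x * x * (dd g' x * dd g x) * x⁻¹ = 1 := by
      rw [← gen]; exact h0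
    have e1 : x * dd g x * x⁻¹ = (dd g x)⁻¹ := eq_inv_of_mul_eq_one_right
      (by simpa [mul_assoc] using hinv g x hx)
    have e2 : x * dd g' x * x⁻¹ = (dd g' x)⁻¹ := eq_inv_of_mul_eq_one_right
      (by simpa [mul_assoc] using hinv g' x hx)
    have e3 : dd g' x * dd g x * ((x * dd g' x * x⁻¹) * (x * dd g x * x⁻¹)) = 1 := by
      rw [← h1]; group
    rw [e1, e2] at e3
    calc dd g x * dd g' x
        = (dd g' x * dd g x * ((dd g' x)⁻¹ * (dd g x)⁻¹)) * (dd g x * dd g' x) := by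
          rw [e3, one_mul]
      _ = _ := by group
  have hmulR : ∀ g, ∀ x ∈ L3, ∀ x' ∈ L3, ∃ v ∈ D.V, dd g (x * x') = dd g x * dd g x' * v := by
    intro g x hx x' hx'
    have hc := hcom2 _ (hdd g x' hx') x
    refine ⟨_, hc, ?_⟩
    rw [mul_assoc, D.V_central hc]
    simp only [hddef]; group
  have hcv : ∀ {a v b : P}, v ∈ D.V → (a * v) * b = b * (a * v) → a * b = b * a := by
    intro a v b hv h
    have hc : v * b = b * v := (D.V_central hv b).symm
    refine mul_right_cancel (b := v) ?_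
    calc a * b * v = a * (v * b) := by rw [hc, mul_assoc]
      _ = b * a * v := by rw [← mul_assoc, h, mul_assoc]
  -- kernels
  have hker : ∀ x ∈ L3, ∀ x' ∈ L3, ∀ g1 g2, dd g1 x ∉ D.V →
      dd g1 x * dd g2 x' ≠ dd g2 x' * dd g1 x → ∀ g, dd g x ∈ D.V → dd g x' ∈ D.V := by
    intro x hx x' hx' g1 g2 h1 hne g hg
    by_contra hgx
    apply hne
    have hxx' : x * x' ∈ L3 := L3.mul_mem hx hx'
    obtain ⟨v, hv, e⟩ := hmulR g x hx x' hx'
    obtain ⟨w, hw, e'⟩ := hmulR g1 x hx x' hx'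
    have hp := hpair g g1 (x * x') hxx'
    rw [e, e'] at hp
    -- the first product equals dd g x' times an involution
    have ea : dd g x * dd g x' * v = dd g x' * (dd g x * v) := by
      rw [← D.V_central hg (dd g x'), mul_assoc]
    rw [ea] at hp
    have hp1 := hcv (D.V.mul_mem hg hv) hp
    have hp2 := (hcv hw hp1.symm).symm
    have hp3 : dd g x' * dd g1 x' = dd g1 x' * dd g x' := hpair g g1 x' hx'
    have hp4 : dd g x' * dd g1 x = dd g1 x * dd g x' := by
      refine mul_right_cancel (b := dd g1 x') ?_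
      calc dd g x' * dd g1 x * dd g1 x' = dd g1 x * (dd g1 x' * dd g x') := by
            rw [mul_assoc, hp2, mul_assoc]
        _ = dd g1 x * dd g x' * dd g1 x' := by rw [← hp3, mul_assoc]
    exact trans' (hdd g x' hx') (hdd g1 x hx) (hdd g2 x' hx') hgx hp4 (hpair g g2 x' hx')
  -- two different lines
  obtain ⟨g1, x1, hx1, g2, x2, hx2, hd1, hd12⟩ : ∃ g1 x1, x1 ∈ L3 ∧ ∃ g2 x2, x2 ∈ L3 ∧
      dd g1 x1 ∉ D.V ∧ dd g1 x1 * dd g2 x2 ≠ dd g2 x2 * dd g1 x1 := by
    by_contra! hall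
    set S : Set P := (D.V : Set P) ∪ {z | ∃ g x, x ∈ L3 ∧ z = dd g x} with hS
    set A := Subgroup.closure S with hA
    have hSc : ∀ a ∈ S, ∀ b ∈ S, a * b = b * a := by
      rintro a ha b hb
      rcases ha with ha | ⟨g, x, hx, rfl⟩
      · exact (D.V_central ha b).symm
      rcases hb with hb | ⟨g', x', hx', rfl⟩
      · exact D.V_central hb _
      by_cases h : dd g x ∈ D.V
      · exact (D.V_central h _).symm
      · exact hall g x hx g' x' hx' h
    have hAcomm : IsMulCommutative A := Subgroup.isMulCommutative_closure hSc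
    have hAL2 : A ≤ L2 := (Subgroup.closure_le _).2 (by
      rintro a (ha | ⟨g, x, hx, rfl⟩)
      · exact hVL2 ha
      · exact hdd g x hx)
    have hVA : D.V ≤ A := fun v hv => Subgroup.subset_closure (Or.inl hv)
    have hI : D.Inv A := by
      refine ⟨fun a ha b hb => congrArg Subtype.val (hAcomm.is_comm.comm ⟨a, ha⟩ ⟨b, hb⟩),
        fun k a ha => ?_, ⟨fun a ha g => ?_⟩, hVA⟩
      · have : A ≤ A.comap (k : MulAut P).toMonoidHom := by
          rw [hA, Subgroup.closure_le]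
          rintro a (ha | ⟨g, x, hx, rfl⟩)
          · exact Subgroup.subset_closure (Or.inl (D.map_V _ ha))
          · refine Subgroup.subset_closure (Or.inr ⟨(k : MulAut P) g, (k : MulAut P) x, hL3K k x hx, ?_⟩)
            show (k : MulAut P) (dd g x) = _
            simp only [hddef, map_mul, map_inv]
        exact this ha
      · have := A.mul_mem (hVA (hcom2 a (hAL2 ha) g)) ha
        rwa [inv_mul_cancel_right] at this
    refine hx02 (mem_layer.2 ⟨hsq3 x0 hx0, fun g => ?_⟩)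
    rw [← hmax A hI]
    exact Subgroup.subset_closure (Or.inr ⟨g, x0, hx0, (hddef g x0).symm⟩)
  have hd2 : dd g2 x2 ∉ D.V := fun h => hd12 (D.V_central h _)
  have h12 := hker x1 hx1 x2 hx2 g1 g2 hd1 hd12
  have h21 := hker x2 hx2 x1 hx1 g2 g1 hd2 (Ne.symm hd12)
  have hall : ∀ x ∈ L3, ∀ g, dd g x1 ∈ D.V → dd g x ∈ D.V := by
    intro x hx g hg
    by_contra hgx
    by_cases h1 : dd g1 x1 * dd g x = dd g x * dd g1 x1
    · have h2 : dd g2 x2 * dd g x ≠ dd g x * dd g2 x2 := fun h2 =>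
        hd12 (trans' (hdd g x hx) (hdd g1 x1 hx1) (hdd g2 x2 hx2) hgx h1.symm h2.symm)
      exact hgx (hker x2 hx2 x hx g2 g hd2 h2 g (h12 g hg))
    · exact hgx (hker x1 hx1 x hx g1 g hd1 h1 g hg)
  let C0 : Subgroup P :=
    { carrier := {g | ∀ x ∈ L3, dd g x ∈ D.V}
      one_mem' := fun x _ => by simp [hddef]
      mul_mem' := fun {a b} ha hb x hx => by
        obtain ⟨v, hv, e⟩ := hmulL a b x hx
        rw [e]; exact mul_mem (mul_mem (hb x hx) (ha x hx)) hv
      inv_mem' := fun {a} ha x hx => by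
        obtain ⟨v, hv, e⟩ := hmulL a⁻¹ a x hx
        rw [inv_mul_cancel, show dd 1 x = 1 by simp [hddef]] at e
        rw [show dd a⁻¹ x = (dd a x)⁻¹ * (dd a x * dd a⁻¹ x * v) * v⁻¹ by group, ← e]
        exact mul_mem (mul_mem (inv_mem (ha x hx)) (one_mem _)) (inv_mem hv) }
  have hC0K : ∀ k : D.Y, ∀ a ∈ C0, (k : MulAut P) a ∈ C0 := by
    intro k a ha x hx
    obtain ⟨x', rfl⟩ := (k : MulAut P).surjective x
    have hx' : x' ∈ L3 := by
      have := hL3K k⁻¹ _ hx
      simpa using this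
    have e : dd ((k : MulAut P) a) ((k : MulAut P) x') = (k : MulAut P) (dd a x') := by
      simp only [hddef, map_mul, map_inv]
    rw [e]; exact D.map_V _ (ha x' hx')
  have hg1C : g1 ∉ C0 := fun h => hd1 (h x1 hx1)
  have jP := C.card_jump (hC0K C.c) (M := ⊤) (fun a _ => Subgroup.mem_top _) le_top
    (Subgroup.mem_top g1) hg1C
  rw [Subgroup.card_top] at jP
  set A1 := Subgroup.closure ((D.V : Set P) ∪ {z | ∃ g, z = dd g x1}) with hA1
  have hA1L : A1 ≤ L2 := (Subgroup.closure_le _).2 (by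
    rintro a (ha | ⟨g, rfl⟩)
    · exact hVL2 ha
    · exact hdd g x1 hx1)
  have hA1c : IsMulCommutative A1 := Subgroup.isMulCommutative_closure (by
    rintro a (ha | ⟨g, rfl⟩) b (hb | ⟨g', rfl⟩)
    · exact (D.V_central ha b).symm
    · exact (D.V_central ha _).symm
    · exact D.V_central hb _
    · exact hpair g g' x1 hx1)
  have hlt : Nat.card A1 < Nat.card L2 := by
    refine lt_of_le_of_ne (Nat.le_of_dvd Nat.card_pos (Subgroup.card_dvd_of_le hA1L)) fun e => ?_
    have e' : A1 = L2 := Subgroup.eq_of_le_of_card_ge hA1L e.ge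
    have hI : D.Inv L2 := ⟨fun a ha b hb => congrArg Subtype.val
      (hA1c.is_comm.comm ⟨a, e' ▸ ha⟩ ⟨b, e' ▸ hb⟩), hL2K, inferInstance, hVL2⟩
    exact hz0V (hmax L2 hI ▸ hz0)
  have hbound : Nat.card (P ⧸ C0) * Nat.card D.V ≤ Nat.card A1 := by
    rw [← Nat.card_prod]
    refine Nat.card_le_card_of_injective
      (fun p => (⟨dd (Quotient.out p.1) x1 * p.2.1, A1.mul_mem (Subgroup.subset_closure (Or.inr ⟨_, rfl⟩))
        (Subgroup.subset_closure (Or.inl p.2.2))⟩ : A1)) ?_
    rintro ⟨p, v⟩ ⟨p', v'⟩ e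
    have e' : dd p.out x1 * v.1 = dd p'.out x1 * v'.1 := congrArg Subtype.val e
    have hpp : p = p' := by
      rw [← QuotientGroup.out_eq' p, ← QuotientGroup.out_eq' p', QuotientGroup.eq]
      intro x hx
      refine hall x hx _ ?_
      have h0 : (dd p.out x1)⁻¹ * dd p'.out x1 = v.1 * v'.1⁻¹ := by
        rw [eq_mul_inv_of_mul_eq e'.symm]; group
      obtain ⟨w, hw, ew⟩ := hmulL p.out ((p.out)⁻¹ * p'.out) x1 hx1
      rw [mul_inv_cancel_left] at ew
      have hval : dd ((p.out)⁻¹ * p'.out) x1 = dd p'.out x1 * w⁻¹ * (dd p.out x1)⁻¹ := by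
        rw [ew]; group
      have hconj := conj_fix (D := D) (v := v.1 * v'.1⁻¹) (mul_mem v.2 (inv_mem v'.2)) (dd p.out x1)
      rw [hval, D.V_central (D.V.inv_mem hw) (dd p'.out x1), mul_assoc,
        show dd p'.out x1 * (dd p.out x1)⁻¹ =
          dd p.out x1 * ((dd p.out x1)⁻¹ * dd p'.out x1) * (dd p.out x1)⁻¹ by group, h0, hconj]
      exact mul_mem (inv_mem hw) (mul_mem v.2 (inv_mem v'.2))
    subst hpp
    exact Prod.ext rfl (Subtype.ext (mul_left_cancel e'))
  have hPC := Subgroup.card_eq_card_quotient_mul_card_subgroup C0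
  rw [hPC] at jP
  have hq2 : Nat.card D.V ≤ Nat.card (P ⧸ C0) := Nat.le_of_mul_le_mul_right jP Nat.card_pos
  have : Nat.card D.V * Nat.card D.V ≤ Nat.card A1 := (Nat.mul_le_mul_right _ hq2).trans hbound
  omega

end Datum

end Cfsg.Agent.SuzSolv
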