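/-
The derived subgroup, the Frattini subgroup, the centre and the involutions coincide.
-/
import Cfsg.Agent.Lib.SuzukiSolv.ExpFour
import Cfsg.Agent.Lib.SuzukiSolv.MaxEq

set_option autoImplicit false

namespace Cfsg.Agent.SuzSolv.Datum

universe u

variable {P : Type u} [Group P] [Finite P]

theorem sq_mem_V (D : Datum P) (hna : ∃ x y : P, x * y ≠ y * x) (x : P) : x * x ∈ D.V := by
  obtain ⟨A, h, -, hmax⟩ := exists_maximal_inv _ (V_inv (D := D))
  obtain ⟨f, hh⟩ := h.exists_homo
  have htop : A ≠ ⊤ := fun e => by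
    obtain ⟨x, y, hxy⟩ := hna
    exact hxy (h.comm x (e ▸ Subgroup.mem_top x) y (e ▸ Subgroup.mem_top y))
  have hf := exponent_le_four h hmax hh htop
  have hf1 := hh.pos
  obtain rfl | rfl : f = 1 ∨ f = 2 := by omega
  · have hA : A = D.V := le_antisymm (fun a ha => D.mem_V.2 (by
      have e := hh.exp a ha
      rwa [pow_one, pow_two] at e)) h.vle
    refine sq_mem_of_max_eq (fun B hB => ?_) x
    rw [← hA]
    exact hmax B hB (hA ▸ hB.vle)
  · exact sq_mem_of_exp_four h hmax hh x

theorem center_eq_V (D : Datum P) (hna : ∃ x y : P, x * y ≠ y * x) : Subgroup.center P = D.V :=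
  Subgroup.ext fun x => D.mem_center_iff hna x

theorem commutator_eq_V (D : Datum P) (hna : ∃ x y : P, x * y ≠ y * x) : commutator P = D.V := by
  refine le_antisymm ?_ fun v hv => ?_
  · rw [commutator_def, Subgroup.commutator_le]
    intro a _ b _
    rw [commutatorElement_def]
    exact mul_comm_of_sq (D.sq_mem_V hna a) (D.sq_mem_V hna b) (D.sq_mem_V hna _)
  · rcases eq_or_ne v 1 with rfl | hv1
    · exact one_mem _
    obtain ⟨a, b, hab⟩ := hna
    have hw : a * b * a⁻¹ * b⁻¹ ∈ D.V :=
      mul_comm_of_sq (D.sq_mem_V ⟨a, b, hab⟩ a) (D.sq_mem_V ⟨a, b, hab⟩ b) (D.sq_mem_V ⟨a, b, hab⟩ _)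
    have hw1 : a * b * a⁻¹ * b⁻¹ ≠ 1 := fun e =>
      hab (mul_inv_eq_iff_eq_mul.1 (mul_inv_eq_one.1 e))
    obtain ⟨k, hk⟩ := D.exists_k hw hw1 hv hv1
    rw [← hk]
    simp only [map_mul, map_inv]
    rw [commutator_def, ← commutatorElement_def]
    exact Subgroup.commutator_mem_commutator (Subgroup.mem_top _) (Subgroup.mem_top _)

theorem frattini_eq_V (D : Datum P) (hna : ∃ x y : P, x * y ≠ y * x) : frattini P = D.V := by
  classical
  refine le_antisymm ?_ ?_
  · -- the factor group is elementary abelian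
    haveI : Fact (Nat.Prime 2) := ⟨Nat.prime_two⟩
    haveI : D.V.Normal := V_normal
    intro x hx
    by_contra hxV
    letI : CommGroup (P ⧸ D.V) :=
      { (inferInstance : Group (P ⧸ D.V)) with
        mul_comm := fun a b => by
          obtain ⟨a, rfl⟩ := QuotientGroup.mk_surjective a
          obtain ⟨b, rfl⟩ := QuotientGroup.mk_surjective b
          rw [← QuotientGroup.mk_mul, ← QuotientGroup.mk_mul, QuotientGroup.eq]
          rw [show (a * b)⁻¹ * (b * a) = b⁻¹ * a⁻¹ * b⁻¹⁻¹ * a⁻¹⁻¹ by group]
          exact mul_comm_of_sq (D.sq_mem_V hna _) (D.sq_mem_V hna _) (D.sq_mem_V hna _) }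
    letI : Module (ZMod 2) (Additive (P ⧸ D.V)) := AddCommGroup.zmodModule (fun q => by
      obtain ⟨a, ha⟩ := QuotientGroup.mk_surjective q.toMul
      rw [two_nsmul]
      refine Additive.toMul.injective ?_
      show q.toMul * q.toMul = 1
      rw [← ha, ← QuotientGroup.mk_mul, QuotientGroup.eq_one_iff]
      exact D.sq_mem_V hna a)
    have hne : Additive.ofMul ((x : P ⧸ D.V)) ≠ 0 := fun e =>
      hxV ((QuotientGroup.eq_one_iff x).1 (congrArg Additive.toMul e))
    obtain ⟨φ, hφ⟩ : ∃ φ : Additive (P ⧸ D.V) →ₗ[ZMod 2] ZMod 2, φ (Additive.ofMul (x : P ⧸ D.V)) ≠ 0 := by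
      by_contra! hall
      exact hne ((Module.forall_dual_apply_eq_zero_iff (ZMod 2) _).1 hall)
    let ψ : P →* Multiplicative (ZMod 2) :=
      (AddMonoidHom.toMultiplicativeRight φ.toAddMonoidHom).comp (QuotientGroup.mk' D.V)
    have hψ : ∀ y, ψ y = Multiplicative.ofAdd (φ (Additive.ofMul (y : P ⧸ D.V))) := fun _ => rfl
    have hco : IsCoatom ψ.ker := by
      have hker : ψ.ker.index = 2 := by
        rw [Subgroup.index_ker]
        have : ψ.range = ⊤ := by
          refine eq_top_iff.2 fun q _ => ?_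
          rcases zmod_two_cases q.toAdd with hq | hq
          · exact ⟨1, by rw [map_one]; exact Multiplicative.toAdd.injective hq.symm⟩
          · refine ⟨x, Multiplicative.toAdd.injective ?_⟩
            rw [hq, hψ, toAdd_ofAdd]
            exact (zmod_two_cases _).resolve_left hφ
        rw [this, Subgroup.card_top, Nat.card_eq_fintype_card, Fintype.card_multiplicative, ZMod.card]
      refine ⟨fun e => ?_, fun K hK => ?_⟩
      · rw [e, Subgroup.index_top] at hker; omega
      · have h1 := Subgroup.relIndex_mul_index hK.le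
        rw [hker] at h1
        rcases (Nat.dvd_prime Nat.prime_two).1 (Dvd.intro_left _ h1) with h2 | h2
        · exact Subgroup.index_eq_one.1 h2
        · exfalso
          rw [h2] at h1
          exact hK.ne (le_antisymm hK.le (Subgroup.relIndex_eq_one.1 (by omega)))
    have := frattini_le_coatom hco hx
    rw [MonoidHom.mem_ker, hψ] at this
    exact hφ (by simpa using this)
  · rw [← D.commutator_eq_V hna]
    refine le_iInf₂ fun M hM => ?_
    haveI : Fact (Nat.Prime 2) := ⟨Nat.prime_two⟩
    haveI := D.isp.isNilpotent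
    haveI : M.Normal := Subgroup.NormalizerCondition.normal_of_coatom M Group.normalizerCondition_of_isNilpotent hM
    haveI : Nontrivial (P ⧸ M) := QuotientGroup.nontrivial_iff.2 hM.1
    haveI : IsSimpleGroup (P ⧸ M) := ⟨fun H _ => by
      rcases eq_or_lt_of_le (show M ≤ H.comap (QuotientGroup.mk' M) from fun m hm => by
        show (m : P ⧸ M) ∈ H
        rw [(QuotientGroup.eq_one_iff m).2 hm]; exact one_mem _) with he | hlt
      · left
        rw [← Subgroup.map_comap_eq_self_of_surjective (QuotientGroup.mk'_surjective M) H, ← he,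
          QuotientGroup.map_mk'_self]
      · right
        rw [← Subgroup.map_comap_eq_self_of_surjective (QuotientGroup.mk'_surjective M) H, hM.2 _ hlt,
          Subgroup.map_top_of_surjective _ (QuotientGroup.mk'_surjective M)]⟩
    have hq := D.isp.to_quotient M
    haveI : Group.IsNilpotent (P ⧸ M) := hq.isNilpotent
    exact Subgroup.Normal.quotient_commutative_iff_commutator_le.1 ⟨⟨fun a b =>
      (IsSimpleGroup.comm_iff_isSolvable (G := P ⧸ M)).2 inferInstance a b⟩⟩

end Cfsg.Agent.SuzSolv.Datum
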